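import Cfsg.Agent.H688.Cov.OMinus
import Cfsg.Agent.H558.Cov.OgO

/-!
# S2499: COV-OMINUS, final form (helper688)

`hP` is the text of `S5948`, as in `H659.CovCore`.
-/

set_option autoImplicit false

namespace Cfsg.Agent.H688.Cov

open Cfsg Cfsg.Geo
open Cfsg.Agent.H278.Cov

theorem ogO_all (hP : Cfsg.Agent.H659.CovCore.S5948Stmt.{0}) (ι : Type) [Fintype ι] [DecidableEq ι] (F : Type) [Field F] [Fintype F] : OgO ι F := by
  intro k Q hQ H hle hne g hg hnum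
  rw [Nat.card_eq_fintype_card] at hnum
  exact Cfsg.Agent.H558.Cov.og_o hP hQ hle hne hg hnum

/-- **COV-OMINUS** : all `PΩ⁻` of dimension `2 m ≥ 10` except `PΩ⁻₁₀(2)`, `PΩ⁻₁₂(2)`, `PΩ⁻₁₄(2)` -/
theorem noTwo_ominus (hP : Cfsg.Agent.H659.CovCore.S5948Stmt.{0}) {m : ℕ} {F : Type} [Field F] [Fintype F]
    (hm : 5 ≤ m) (hq2 : Fintype.card F = 2 → 8 ≤ m) {a b : F}
    (hab : ∀ z₁ z₂ : F, z₁ ^ 2 + a * z₁ * z₂ + b * z₂ ^ 2 = 0 → z₁ = 0 ∧ z₂ = 0) :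
    NoTwo (POmega F (quadFormMinus (m - 1) F a b)) :=
  noTwo_ominus_of (ogO_all hP _ F) hm hq2 hab

end Cfsg.Agent.H688.Cov
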