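import Cfsg.Agent.H688.Cov.Model
import Cfsg.Agent.H689.Num

/-!
# S2499, orthogonal groups: blocks (helper688)

* `ker_sub_one` : an element of order prime to `q`, `q ^ i - 1` (`i < k`) has no fixed vector on a space of dimension `k`;
* products `S.prodMap T` : kernels of polynomials, `fst_zero`, `snd_zero`;
* `exists_pos` : the block of plus type of dimension `2 a`, `a` odd: an isometry of prime order `l` (a primitive prime
  divisor of `q ^ a - 1`) without fixed vector and a polynomial with kernel of dimension `a`;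
* `exists_neg`, `exists_num_minus`.
-/

set_option autoImplicit false
set_option linter.unusedSectionVars false

namespace Cfsg.Agent.H688.Cov

open Cfsg Cfsg.Geo Module Polynomial
open Cfsg.Agent.H278.Cov Cfsg.Agent.H383.Cov
open Cfsg.Agent.LieClassical.OrthCore (Nondeg)
open Cfsg.Agent.H377 (HasSign sumQ sumQ_apply sumQ_nondeg hypQ hypQ_apply hypQ_nondeg hasSign_mul Elt elt_tor_minus
  prodMap_pow' prodMap_eq_one_iff orderOf_prodMap)
open Cfsg.Agent.H689 (Ppd)

universe u v w

section lin

variable {F : Type u} [Field F] [Finite F] {V : Type v} [AddCommGroup V] [Module F V] [FiniteDimensional F V]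

theorem ker_sub_one {T : Module.End F V} {M k : ℕ} (hT : T ^ M = 1) (hq : M.Coprime (Nat.card F))
    (hM : ∀ i, 1 ≤ i → i < k → M.Coprime (Nat.card F ^ i - 1)) (hk : finrank F V = k) (hne : T ≠ 1) :
    LinearMap.ker (T - 1) = ⊥ := by
  by_contra hb
  have h0 : 0 < finrank F (LinearMap.ker (T - 1)) := by
    rw [Nat.pos_iff_ne_zero]
    intro h
    exact hb (Submodule.finrank_eq_zero.1 h)
  have h1 := LinearMap.finrank_range_add_finrank_ker (T - 1)
  have hinv : ∀ w ∈ LinearMap.range (T - 1), T w ∈ LinearMap.range (T - 1) := by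
    rintro _ ⟨v, rfl⟩
    refine ⟨T v, ?_⟩
    rw [← Module.End.mul_apply, ← Module.End.mul_apply, sub_mul, mul_sub, one_mul, mul_one]
  apply hne
  rw [← sub_eq_zero]
  apply LinearMap.ext
  intro v
  exact eq_zero_of_fix hT hq (v := v) rfl (fix_of_lt hT hq hM hinv (by omega) ⟨v, rfl⟩)

theorem fix_eq_zero {T : Module.End F V} (h : LinearMap.ker (T - 1) = ⊥) {v : V} (hv : T v = v) : v = 0 := by
  have h1 : v ∈ LinearMap.ker (T - 1) := by
    rw [LinearMap.mem_ker, LinearMap.sub_apply, hv, Module.End.one_apply, sub_self]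
  rw [h] at h1
  exact (Submodule.mem_bot F).1 h1

theorem finrank_range_of_ker {T : Module.End F V} (h : LinearMap.ker (T - 1) = ⊥) :
    finrank F (LinearMap.range (T - 1)) = finrank F V := by
  have h1 := LinearMap.finrank_range_add_finrank_ker (T - 1)
  rw [h, finrank_bot, add_zero] at h1
  exact h1

end lin

section prod

variable {F : Type u} [Field F] [Finite F] {V : Type v} [AddCommGroup V] [Module F V] [FiniteDimensional F V]
  {V' : Type w} [AddCommGroup V'] [Module F V'] [FiniteDimensional F V']

theorem aeval_prodMap (S : Module.End F V) (T : Module.End F V') (P : F[X]) :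
    aeval (S.prodMap T : Module.End F (V × V')) P = (aeval S P).prodMap (aeval T P) := by
  induction P using Polynomial.induction_on' with
  | add p q hp hq => rw [map_add, map_add, map_add, hp, hq]; rfl
  | monomial n a =>
    rw [aeval_monomial, aeval_monomial, aeval_monomial, prodMap_pow']
    rfl

theorem finrank_submodule_prod (A : Submodule F V) (B : Submodule F V') :
    finrank F (A.prod B) = finrank F A + finrank F B := by
  rw [← Module.finrank_prod]
  exact LinearEquiv.finrank_eq
    { toFun := fun x => (⟨x.1.1, x.2.1⟩, ⟨x.1.2, x.2.2⟩)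
      invFun := fun x => ⟨(x.1.1, x.2.1), ⟨x.1.2, x.2.2⟩⟩
      map_add' := fun _ _ => rfl
      map_smul' := fun _ _ => rfl
      left_inv := fun _ => rfl
      right_inv := fun _ => rfl }

theorem finrank_ker_prodMap (S : Module.End F V) (T : Module.End F V') (P : F[X]) :
    finrank F (LinearMap.ker (aeval (S.prodMap T : Module.End F (V × V')) P)) =
      finrank F (LinearMap.ker (aeval S P)) + finrank F (LinearMap.ker (aeval T P)) := by
  rw [aeval_prodMap, LinearMap.ker_prodMap, finrank_submodule_prod]

theorem finrank_ker_aeval_one (P : F[X]) (h : P.eval 1 ≠ 0) :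
    finrank F (LinearMap.ker (aeval (1 : Module.End F V) P)) = 0 := by
  have h1 : aeval (1 : Module.End F V) P = (P.eval 1) • (1 : Module.End F V) := by
    have h2 := aeval_algebraMap_apply (Module.End F V) (1 : F) P
    rw [map_one] at h2
    rw [h2, Algebra.algebraMap_eq_smul_one]
    rfl
  rw [h1, Submodule.finrank_eq_zero, LinearMap.ker_eq_bot']
  intro v hv
  exact (smul_eq_zero.1 hv).resolve_left h

theorem finrank_range_prod_one (S : Module.End F V) :
    finrank F (LinearMap.range ((S.prodMap (1 : Module.End F V') : Module.End F (V × V')) - 1)) =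
      finrank F (LinearMap.range (S - 1)) := by
  have h1 : (S.prodMap (1 : Module.End F V') : Module.End F (V × V')) - 1 = (S - 1).prodMap 0 := by
    apply LinearMap.ext
    intro v
    refine Prod.ext rfl ?_
    change v.2 - v.2 = 0
    rw [sub_self]
  rw [h1, LinearMap.range_prodMap, finrank_submodule_prod, LinearMap.range_zero, finrank_bot, add_zero]

/-- exponents separating the two blocks -/
theorem exists_sep {S : Module.End F V} {T : Module.End F V'} {M N : ℕ} (hS : S ^ M = 1) (hT : T ^ N = 1)
    (hMN : M.Coprime N) : ∃ s : ℕ, S ^ s = S ∧ T ^ s = 1 := by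
  obtain ⟨s, h1, h2⟩ := Nat.chineseRemainder hMN 1 0
  refine ⟨s, ?_, ?_⟩
  · have h3 : s ≡ 1 [MOD orderOf S] := h1.of_dvd (orderOf_dvd_of_pow_eq_one hS)
    have h4 := pow_eq_pow_of_modEq h3 (pow_orderOf_eq_one S)
    rwa [pow_one] at h4
  · obtain ⟨c, rfl⟩ := (Nat.modEq_zero_iff_dvd).1 h2
    rw [pow_mul, hT, one_pow]

/-- a small invariant subspace has trivial first components -/
theorem fst_zero {S : Module.End F V} {T : Module.End F V'} {s M k : ℕ} (hs : S ^ s = S) (ht : T ^ s = 1)
    (hS : S ^ M = 1) (hq : M.Coprime (Nat.card F)) (hM : ∀ i, 1 ≤ i → i < k → M.Coprime (Nat.card F ^ i - 1))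
    (hker : LinearMap.ker (S - 1) = ⊥) {W : Submodule F (V × V')} (hk : finrank F W < k)
    (hW : ∀ w ∈ W, (S.prodMap T) w ∈ W) {w : V × V'} (hw : w ∈ W) : w.1 = 0 := by
  let X : Module.End F (V × V') := S.prodMap (1 : Module.End F V')
  have hX : ((S.prodMap T : Module.End F (V × V')) ^ s) = X := by
    rw [prodMap_pow', hs, ht]
  have hX1 : X ^ M = 1 := by
    change (S.prodMap (1 : Module.End F V') : Module.End F (V × V')) ^ M = 1
    rw [prodMap_pow', hS, one_pow]
    rfl
  have hXW : ∀ w ∈ W, X w ∈ W := by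
    intro w hw
    rw [← hX]
    have : ∀ n : ℕ, ∀ w ∈ W, ((S.prodMap T : Module.End F (V × V')) ^ n) w ∈ W := by
      intro n
      induction n with
      | zero => exact fun w hw => hw
      | succ n ih => intro w hw; rw [pow_succ, Module.End.mul_apply]; exact ih _ (hW w hw)
    exact this s w hw
  have h1 := fix_of_lt hX1 hq hM hXW hk hw
  exact fix_eq_zero hker (congrArg Prod.fst h1)

theorem snd_zero {S : Module.End F V} {T : Module.End F V'} {s M k : ℕ} (hs : S ^ s = 1) (ht : T ^ s = T)
    (hT : T ^ M = 1) (hq : M.Coprime (Nat.card F)) (hM : ∀ i, 1 ≤ i → i < k → M.Coprime (Nat.card F ^ i - 1))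
    (hker : LinearMap.ker (T - 1) = ⊥) {W : Submodule F (V × V')} (hk : finrank F W < k)
    (hW : ∀ w ∈ W, (S.prodMap T) w ∈ W) {w : V × V'} (hw : w ∈ W) : w.2 = 0 := by
  let X : Module.End F (V × V') := (1 : Module.End F V).prodMap T
  have hX : ((S.prodMap T : Module.End F (V × V')) ^ s) = X := by
    rw [prodMap_pow', hs, ht]
  have hX1 : X ^ M = 1 := by
    change ((1 : Module.End F V).prodMap T : Module.End F (V × V')) ^ M = 1
    rw [prodMap_pow', hT, one_pow]
    rfl
  have hXW : ∀ w ∈ W, X w ∈ W := by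
    intro w hw
    rw [← hX]
    have : ∀ n : ℕ, ∀ w ∈ W, ((S.prodMap T : Module.End F (V × V')) ^ n) w ∈ W := by
      intro n
      induction n with
      | zero => exact fun w hw => hw
      | succ n ih => intro w hw; rw [pow_succ, Module.End.mul_apply]; exact ih _ (hW w hw)
    exact this s w hw
  have h1 := fix_of_lt hX1 hq hM hXW hk hw
  exact fix_eq_zero hker (congrArg Prod.snd h1)

end prod

section pos

variable {F : Type u} [Field F] [Finite F]

/-- the block of plus type -/
structure PosB (F : Type u) [Field F] [Finite F] (a l : ℕ) (V : Type v) [AddCommGroup V] [Module F V] [Finite V]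
    (Q : QuadraticForm F V) (T : Module.End F V) (P : F[X]) : Prop where
  dim : finrank F V = 2 * a
  nd : Nondeg Q
  sign : HasSign (⇑Q) a 1
  isom : ∀ v, Q (T v) = Q v
  order : orderOf T = l
  fix : LinearMap.ker (T - 1) = ⊥
  one : P.eval 1 ≠ 0
  ker : finrank F (LinearMap.ker (aeval T P)) = a

variable {K : Type w} [Field K] [Finite K] [Algebra F K]

/-- the hyperbolic form `tr (u v)` -/
noncomputable def trQ (F : Type u) (K : Type w) [Field F] [Field K] [Algebra F K] : QuadraticForm F (K × K) :=
  (Algebra.trace F K).compQuadraticMap' (hypQ K)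

theorem trQ_apply (v : K × K) : trQ F K v = Algebra.trace F K (v.1 * v.2) := rfl

theorem trQ_nondeg : Nondeg (trQ F K) := by
  have : Module.Finite F K := Module.Finite.of_finite
  intro x hx
  obtain ⟨t, ht⟩ := Algebra.trace_surjective F K 1
  have h1 : ∀ y, Algebra.trace F K (x.1 * y) = 0 := by
    intro y
    have h2 := hx (0, y)
    simp only [QuadraticMap.polar, trQ_apply, Prod.fst_add, Prod.snd_add, add_zero, zero_mul, map_zero, sub_zero] at h2
    rw [mul_add, map_add] at h2
    linear_combination h2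
  have h2 : ∀ y, Algebra.trace F K (y * x.2) = 0 := by
    intro y
    have h2 := hx (y, 0)
    simp only [QuadraticMap.polar, trQ_apply, Prod.fst_add, Prod.snd_add, add_zero, mul_zero, map_zero, sub_zero] at h2
    rw [add_mul, map_add] at h2
    linear_combination h2
  refine Prod.ext ?_ ?_
  · by_contra hne
    have h3 := h1 ((x.1)⁻¹ * t)
    rw [← mul_assoc, mul_inv_cancel₀ hne, one_mul, ht] at h3
    exact one_ne_zero h3
  · by_contra hne
    have h3 := h2 (t * (x.2)⁻¹)
    rw [mul_assoc, inv_mul_cancel₀ hne, mul_one, ht] at h3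
    exact one_ne_zero h3

/-- multiplication by `lam` and `lam⁻¹` -/
noncomputable def mulT (F : Type u) {K : Type w} [Field F] [Field K] [Algebra F K] (c : K) : Module.End F (K × K) :=
  (Algebra.lmul F K c).prodMap (Algebra.lmul F K c⁻¹)

theorem mulT_apply (c : K) (v : K × K) : mulT F c v = (c * v.1, c⁻¹ * v.2) := rfl

open scoped Classical in
theorem finrank_ker_lmul [FiniteDimensional F K] (c : K) :
    finrank F (LinearMap.ker (Algebra.lmul F K c)) = if c = 0 then finrank F K else 0 := by
  split_ifs with h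
  · rw [h, map_zero, LinearMap.ker_zero, finrank_top]
  · rw [Submodule.finrank_eq_zero, LinearMap.ker_eq_bot']
    intro v hv
    exact (mul_eq_zero.1 hv).resolve_left h

open scoped Classical in
theorem finrank_ker_mulT [FiniteDimensional F K] (c : K) (P : F[X]) :
    finrank F (LinearMap.ker (aeval (mulT F c) P)) =
      (if aeval c P = 0 then finrank F K else 0) + (if aeval c⁻¹ P = 0 then finrank F K else 0) := by
  rw [mulT, finrank_ker_prodMap, aeval_algHom_apply, aeval_algHom_apply, finrank_ker_lmul, finrank_ker_lmul]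

theorem sigma_pow (σ : K ≃ₐ[F] K) {c : K} (h : σ (σ c) = c) : ∀ n : ℕ, (σ ^ (2 * n)) c = c := by
  intro n
  induction n with
  | zero => rw [mul_zero, pow_zero]; rfl
  | succ n ih =>
    rw [show 2 * (n + 1) = 2 * n + 1 + 1 by ring, pow_succ, pow_succ, AlgEquiv.mul_apply, AlgEquiv.mul_apply, h, ih]

/-- **the block of plus type** -/
theorem posB {a l : ℕ} (ha : Odd a) (hK : finrank F K = a) (hl : l.Prime) (hl2 : l ≠ 2) {c : K} (hc0 : c ≠ 0)
    (hc : orderOf c = l) : PosB F a l (K × K) (trQ F K) (mulT F c) (minpoly F c) := by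
  have : Module.Finite F K := Module.Finite.of_finite
  have hint : IsIntegral F c := Algebra.IsIntegral.isIntegral c
  have hc1 : c ≠ 1 := by
    rintro rfl
    rw [orderOf_one] at hc
    exact hl.one_lt.ne hc
  refine ⟨?_, trQ_nondeg, ?_, ?_, ?_, ?_, ?_, ?_⟩
  · rw [Module.finrank_prod, hK]
    ring
  · have h := (hasSign_mul (F := K)).res (F := F)
    rw [hK, mul_one] at h
    exact h
  · intro v
    rw [trQ_apply, trQ_apply, mulT_apply]
    congr 1
    change c * v.1 * (c⁻¹ * v.2) = v.1 * v.2
    field_simp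
  · rw [← hc, orderOf_eq_orderOf_iff]
    intro n
    have h1 : (mulT F c) ^ n = (Algebra.lmul F K (c ^ n)).prodMap (Algebra.lmul F K ((c⁻¹) ^ n)) := by
      rw [mulT, prodMap_pow', ← map_pow, ← map_pow]
    rw [h1, prodMap_eq_one_iff]
    constructor
    · rintro ⟨h, -⟩
      have h2 := LinearMap.congr_fun h (1 : K)
      change c ^ n * 1 = 1 at h2
      rwa [mul_one] at h2
    · intro h
      rw [inv_pow, h, inv_one, map_one]
      exact ⟨rfl, rfl⟩
  · rw [LinearMap.ker_eq_bot']
    intro v hv
    have h1 : c * v.1 - v.1 = 0 := congrArg Prod.fst hv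
    have h2 : c⁻¹ * v.2 - v.2 = 0 := congrArg Prod.snd hv
    refine Prod.ext ?_ ?_
    · have h3 : (c - 1) * v.1 = 0 := by linear_combination h1
      exact (mul_eq_zero.1 h3).resolve_left (sub_ne_zero.2 hc1)
    · have h3 : (c⁻¹ - 1) * v.2 = 0 := by linear_combination h2
      refine (mul_eq_zero.1 h3).resolve_left (sub_ne_zero.2 ?_)
      rw [Ne, inv_eq_one]
      exact hc1
  · intro h
    have h1 : aeval (1 : K) (minpoly F c) = 0 := by
      have h2 := aeval_algebraMap_apply K (1 : F) (minpoly F c)
      rw [map_one] at h2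
      rw [h2]
      have h3 : aeval (1 : F) (minpoly F c) = 0 := h
      rw [h3, map_zero]
    obtain ⟨σ, hσ⟩ := isConjRoot_iff_exists_algEquiv.1 (isConjRoot_of_aeval_eq_zero hint h1)
    rw [map_one] at hσ
    exact hc1 hσ.symm
  · rw [finrank_ker_mulT, minpoly.aeval, if_pos rfl, if_neg, add_zero, hK]
    intro h1
    obtain ⟨σ, hσ⟩ := isConjRoot_iff_exists_algEquiv.1 (isConjRoot_of_aeval_eq_zero hint h1)
    have hσ2 : σ c = c⁻¹ := by
      have h2 : σ c⁻¹ = c := hσ
      rw [map_inv₀] at h2
      rw [← inv_inv (σ c), h2]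
    have hσ3 : σ (σ c) = c := by rw [hσ2, map_inv₀, hσ2, inv_inv]
    have hσa : σ ^ a = 1 := by
      have h4 : Nat.card (K ≃ₐ[F] K) = a := by rw [IsGalois.card_aut_eq_finrank, hK]
      rw [← h4]
      exact pow_card_eq_one'
    obtain ⟨k, rfl⟩ := ha
    have h5 := sigma_pow σ hσ3 k
    have h6 : (σ ^ (2 * k + 1)) c = c := by rw [hσa]; rfl
    rw [pow_succ', AlgEquiv.mul_apply, h5] at h6
    rw [hσ2] at h6
    have h7 : c ^ 2 = 1 := by
      rw [pow_two]
      nth_rewrite 1 [← h6]
      exact inv_mul_cancel₀ hc0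
    have h8 : l ∣ 2 := by
      rw [← hc]
      exact orderOf_dvd_of_pow_eq_one h7
    exact hl2 ((Nat.prime_dvd_prime_iff_eq hl Nat.prime_two).1 h8)

end pos

section exist

variable (F : Type u) [Field F] [Finite F]

/-- **existence of the block of plus type** -/
theorem exists_pos {a l : ℕ} (ha : Odd a) (hl : Ppd (Nat.card F) a l) (hl2 : l ≠ 2) :
    ∃ (V : Type) (_ : AddCommGroup V) (_ : Module F V) (_ : Finite V) (Q : QuadraticForm F V) (T : Module.End F V)
      (P : F[X]), PosB F a l V Q T P := by
  obtain ⟨p, _⟩ := CharP.exists F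
  have : Fact p.Prime := ⟨CharP.char_is_prime F p⟩
  have : NeZero a := ⟨by obtain ⟨k, rfl⟩ := ha; omega⟩
  have hK := FiniteField.finrank_extension (k := F) (p := p) (n := a)
  have hcard : Nat.card (FiniteField.Extension F p a)ˣ = Nat.card F ^ a - 1 := by
    rw [Nat.card_units, FiniteField.natCard_extension]
  have : Fact l.Prime := ⟨hl.prime⟩
  obtain ⟨c, hc⟩ := exists_prime_orderOf_dvd_card' (G := (FiniteField.Extension F p a)ˣ) l (by
    rw [hcard]
    exact (hl.iff a).2 dvd_rfl)
  have hc' : orderOf (c : FiniteField.Extension F p a) = l := by rw [orderOf_units, hc]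
  exact ⟨_, _, _, inferInstance, _, _, _, posB (F := F) (K := FiniteField.Extension F p a) ha hK hl.prime hl2
    (Units.ne_zero c) hc'⟩

end exist

end Cfsg.Agent.H688.Cov
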