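import Cfsg.Agent.H688.Cov.Blocks

/-!
# S2499, orthogonal groups: the elements of the rows (helper688)

* `Mod Q m ε` : every nondegenerate form of dimension `2 m` and type `ε` is isometric to `Q`;
* `exists_negB` : the element `neg j + T₂` of `omegaGL Q`;
* `exists_pn` : the element `pos a + T₂` of `omegaGL Q`, `a` odd.
-/

set_option autoImplicit false
set_option linter.unusedSectionVars false

namespace Cfsg.Agent.H688.Cov

open Cfsg Cfsg.Geo Module Polynomial
open Cfsg.Agent.H278.Cov Cfsg.Agent.H383.Cov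
open Cfsg.Agent.LieClassical.OrthCore (Nondeg)
open Cfsg.Agent.H377 (HasSign sumQ sumQ_apply sumQ_nondeg Elt elt_tor_minus prodMap_pow' orderOf_prodMap)
open Cfsg.Agent.H689 (Ppd)
open scoped MatrixGroups Matrix

universe v

section num

theorem num_facts {q n j N : ℕ} (hq : 2 ≤ q) (h : Num q n (2 * j) N) :
    N ∣ q ^ j + 1 ∧ Odd N ∧ N.Coprime q ∧ 1 < N ∧ 1 ≤ j := by
  have hj : 1 ≤ j := by
    have h1 := h.ten
    have h2 := h.lt
    omega
  have h1 : N ∣ (q ^ j - 1) * (q ^ j + 1) := by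
    have h2 : (q ^ j - 1) * (q ^ j + 1) = q ^ (2 * j) - 1 := by
      have h3 := Nat.sq_sub_sq (q ^ j) 1
      rw [one_pow, ← pow_mul, mul_comm j 2] at h3
      rw [h3, mul_comm]
    rw [h2]
    exact h.dvd
  have hqj : 1 ≤ q ^ (2 * j) := Nat.one_le_pow _ _ (by omega)
  have hcq : N.Coprime q := by
    rw [Nat.coprime_comm]
    have h3 : (q ^ (2 * j)).Coprime (q ^ (2 * j) - 1) := by
      have h4 : (q ^ (2 * j) - 1 + 1).Coprime (q ^ (2 * j) - 1) := by simp
      rwa [Nat.sub_add_cancel hqj] at h4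
    have h5 : (q ^ (2 * j)).Coprime N := Nat.Coprime.coprime_dvd_right h.dvd h3
    exact Nat.Coprime.coprime_dvd_left (dvd_pow_self q (by omega)) h5
  refine ⟨(h.prim j hj (by omega)).dvd_of_dvd_mul_left h1, ?_, hcq, ?_, hj⟩
  · rw [← Nat.not_even_iff_odd]
    intro he
    have h2 : 2 ∣ N := he.two_dvd
    rcases Nat.even_or_odd q with h3 | h3
    · have h4 : 2 ∣ 1 := by
        have := Nat.dvd_gcd h2 h3.two_dvd
        rwa [hcq] at this
      omega
    · have h4 : 2 ∣ q ^ 1 - 1 := by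
        rw [pow_one]
        obtain ⟨k, rfl⟩ := h3
        exact ⟨k, by omega⟩
      have h5 := Nat.dvd_gcd h2 h4
      rw [h.prim 1 le_rfl (by omega)] at h5
      omega
  · have := h.big
    omega

theorem ppd_copq {q k r : ℕ} (h : Ppd q k r) : r.Coprime q :=
  (Nat.Prime.coprime_iff_not_dvd h.prime).2 h.not_dvd

theorem ppd_cop {q k r : ℕ} (h : Ppd q k r) {i : ℕ} (hi : 1 ≤ i) (hk : i < k) : r.Coprime (q ^ i - 1) := by
  rw [Nat.Prime.coprime_iff_not_dvd h.prime, h.iff]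
  intro h1
  have := Nat.le_of_dvd (by omega) h1
  omega

theorem num_coprime {q n j N M c : ℕ} (h : Num q n (2 * j) N) (hM : M ∣ q ^ c - 1) (hc : 1 ≤ c) (hcj : c < 2 * j) :
    N.Coprime M := Nat.Coprime.coprime_dvd_right hM (h.prim c hc hcj)

end num

section

variable {ι : Type} [Fintype ι] [DecidableEq ι] {F : Type} [Field F] [Finite F]

/-- every nondegenerate form of dimension `2 m` and type `ε` is isometric to `Q` -/
def Mod (Q : QuadraticForm F (ι → F)) (m : ℕ) (ε : ℤ) : Prop :=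
  ∀ (V : Type) [AddCommGroup V] [Module F V] [Finite V] (Q' : QuadraticForm F V), finrank F V = 2 * m → Nondeg Q' →
    HasSign (⇑Q') m ε → ∃ e : (ι → F) ≃ₗ[F] V, ∀ u, Q' (e u) = Q u

variable {V V' : Type} [AddCommGroup V] [Module F V] [Finite V] [AddCommGroup V'] [Module F V'] [Finite V']
  {e : (ι → F) ≃ₗ[F] (V × V')} {x : GL ι F} {S : Module.End F V} {T : Module.End F V'}

theorem finrank_le_of_fst {W : Submodule F (ι → F)} (h : ∀ w ∈ W, (e w).1 = 0) : finrank F W ≤ finrank F V' := by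
  have : FiniteDimensional F V' := Module.Finite.of_finite
  let f : W →ₗ[F] V' := (LinearMap.snd F V V').comp ((e : (ι → F) →ₗ[F] (V × V')).comp W.subtype)
  refine LinearMap.finrank_le_finrank_of_injective (f := f) ?_
  rw [← LinearMap.ker_eq_bot, LinearMap.ker_eq_bot']
  intro w hw
  have h1 : e w = 0 := Prod.ext (h w w.2) hw
  exact Subtype.ext ((LinearEquiv.map_eq_zero_iff e).1 h1)

theorem finrank_le_of_snd {W : Submodule F (ι → F)} (h : ∀ w ∈ W, (e w).2 = 0) : finrank F W ≤ finrank F V := by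
  have : FiniteDimensional F V := Module.Finite.of_finite
  let f : W →ₗ[F] V := (LinearMap.fst F V V').comp ((e : (ι → F) →ₗ[F] (V × V')).comp W.subtype)
  refine LinearMap.finrank_le_finrank_of_injective (f := f) ?_
  rw [← LinearMap.ker_eq_bot, LinearMap.ker_eq_bot']
  intro w hw
  have h1 : e w = 0 := Prod.ext hw (h w w.2)
  exact Subtype.ext ((LinearEquiv.map_eq_zero_iff e).1 h1)

theorem pow_inv {U : Type} [AddCommGroup U] [Module F U] {R : Module.End F U} {W : Submodule F U}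
    (h : ∀ w ∈ W, R w ∈ W) (n : ℕ) : ∀ w ∈ W, (R ^ n) w ∈ W := by
  induction n with
  | zero => exact fun w hw => hw
  | succ n ih => intro w hw; rw [pow_succ, Module.End.mul_apply]; exact ih _ (h w hw)

/-- `W` invariant under `x = (S, T)`, contained in the second space, where `T` has prime order and no fixed vector -/
theorem dvd_of_snd (hx : IsM e x (S.prodMap T)) {W : Submodule F (ι → F)} (hW : ∀ w ∈ W, (x : Matrix ι ι F) *ᵥ w ∈ W)
    (h : ∀ w ∈ W, (e w).1 = 0) {s r c : ℕ} (hs : S ^ s = 1) (ht : T ^ s = T) (hT : T ^ r = 1)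
    (hr : Ppd (Nat.card F) c r) (hc : 1 ≤ c) (hker : LinearMap.ker (T - 1) = ⊥) : c ∣ finrank F W := by
  have : FiniteDimensional F V := Module.Finite.of_finite
  have : FiniteDimensional F V' := Module.Finite.of_finite
  rw [← finrank_map_e (e := e)]
  refine dvd_of_free (x := ((1 : Module.End F V).prodMap T : Module.End F (V × V'))) hr.prime ?_ hc
    ((hr.iff c).2 dvd_rfl) ?_ ?_ ?_
  · rw [prodMap_pow', hT, one_pow]
    rfl
  · intro i hi hic hd
    rw [hr.iff] at hd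
    have := Nat.le_of_dvd (by omega) hd
    omega
  · have h1 := pow_inv (hx.inv_map hW) s
    rwa [prodMap_pow', hs, ht] at h1
  · rintro _ ⟨w, hw, rfl⟩ hfix
    refine Prod.ext (h w hw) (fix_eq_zero hker ?_)
    exact congrArg Prod.snd hfix

theorem dvd_of_fst (hx : IsM e x (S.prodMap T)) {W : Submodule F (ι → F)} (hW : ∀ w ∈ W, (x : Matrix ι ι F) *ᵥ w ∈ W)
    (h : ∀ w ∈ W, (e w).2 = 0) {s r c : ℕ} (hs : S ^ s = S) (ht : T ^ s = 1) (hS : S ^ r = 1)
    (hr : Ppd (Nat.card F) c r) (hc : 1 ≤ c) (hker : LinearMap.ker (S - 1) = ⊥) : c ∣ finrank F W := by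
  have : FiniteDimensional F V := Module.Finite.of_finite
  have : FiniteDimensional F V' := Module.Finite.of_finite
  rw [← finrank_map_e (e := e)]
  refine dvd_of_free (x := (S.prodMap (1 : Module.End F V') : Module.End F (V × V'))) hr.prime ?_ hc
    ((hr.iff c).2 dvd_rfl) ?_ ?_ ?_
  · rw [prodMap_pow', hS, one_pow]
    rfl
  · intro i hi hic hd
    rw [hr.iff] at hd
    have := Nat.le_of_dvd (by omega) hd
    omega
  · have h1 := pow_inv (hx.inv_map hW) s
    rwa [prodMap_pow', hs, ht] at h1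
  · rintro _ ⟨w, hw, rfl⟩ hfix
    refine Prod.ext (fix_eq_zero hker ?_) (h w hw)
    exact congrArg Prod.fst hfix

theorem sumQ_isom {Q₁ : QuadraticForm F V} {Q₂ : QuadraticForm F V'} (h₁ : ∀ v, Q₁ (S v) = Q₁ v)
    (h₂ : ∀ v, Q₂ (T v) = Q₂ v) (v : V × V') : sumQ Q₁ Q₂ ((S.prodMap T) v) = sumQ Q₁ Q₂ v := by
  rw [sumQ_apply, sumQ_apply, LinearMap.prodMap_apply, h₁, h₂]

variable {Q : QuadraticForm F (ι → F)}

/-- **the element `neg j + T₂`** -/
theorem exists_negB (hQ : Nondeg Q) {m j c N : ℕ} (hcard : Fintype.card ι = 2 * m) (hjc : j + c = m)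
    (hnum : Num (Nat.card F) (Fintype.card ι) (2 * j) N) {Q₂ : QuadraticForm F V'} {ε : ℤ}
    (hdim : finrank F V' = 2 * c) (hnd : Nondeg Q₂) (hsg : HasSign (⇑Q₂) c ε) {R : Module.End F V'}
    (hR : ∀ v, Q₂ (R v) = Q₂ v) (hRT : R * R = T)
    {M : ℕ} (hM : T ^ M = 1) (hNM : N.Coprime M) (hmod : Mod Q m (-1 * ε)) :
    ∃ x ∈ omegaGL ⇑Q, NegB j x ∧ ∃ (Q₁ : QuadraticForm F (Fin (2 * j) → F)) (S : Module.End F (Fin (2 * j) → F))
      (e : (ι → F) ≃ₗ[F] ((Fin (2 * j) → F) × V')) (s : ℕ), IsM e x (S.prodMap T) ∧ (∀ u, sumQ Q₁ Q₂ (e u) = Q u) ∧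
      S ^ s = 1 ∧ T ^ s = T ∧ ∀ W : Submodule F (ι → F), (∀ w ∈ W, (x : Matrix ι ι F) *ᵥ w ∈ W) →
        2 * finrank F W ≤ Fintype.card ι → ∀ w ∈ W, (e w).1 = 0 := by
  have : FiniteDimensional F V' := Module.Finite.of_finite
  have hq : 2 ≤ Nat.card F := Finite.one_lt_card
  obtain ⟨h1, hodd, hcq, hN1, hj⟩ := num_facts hq hnum
  obtain ⟨-, Q₁, S, nd₁, sg₁, is₁, os₁⟩ := elt_tor_minus (F := F) hj h1
  have hSN : S ^ N = 1 := by rw [← os₁]; exact pow_orderOf_eq_one S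
  have hdim₁ : finrank F (Fin (2 * j) → F) = 2 * j := Module.finrank_fin_fun F
  obtain ⟨e, he⟩ := hmod ((Fin (2 * j) → F) × V') (sumQ Q₁ Q₂) (by
    rw [Module.finrank_prod, hdim₁, hdim, ← hjc]
    ring) (sumQ_nondeg nd₁ hnd) (by
      have := sg₁.prod hsg
      rwa [hjc] at this)
  obtain ⟨k, hk⟩ := id hodd
  have hsq : (S ^ (k + 1)).prodMap R * (S ^ (k + 1)).prodMap R =
      (S.prodMap T : Module.End F ((Fin (2 * j) → F) × V')) := by
    have h2 : S ^ (k + 1) * S ^ (k + 1) = S := by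
      rw [← pow_add, show k + 1 + (k + 1) = (2 * k + 1) + 1 by ring, ← hk, pow_succ, hSN, one_mul]
    apply LinearMap.ext
    intro v
    refine Prod.ext ?_ ?_
    · exact LinearMap.congr_fun h2 v.1
    · exact LinearMap.congr_fun hRT v.2
  obtain ⟨x, hxO, hx⟩ := exists_sq hQ (by have := hnum.ten; omega) he
    (sumQ_isom (S := S ^ (k + 1)) (T := R) (fun v => Cfsg.Agent.H377.isom_pow is₁ _ v) hR) hsq
  have hker : LinearMap.ker (S - 1) = ⊥ := by
    refine ker_sub_one hSN hcq hnum.prim hdim₁ ?_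
    rintro rfl
    rw [orderOf_one] at os₁
    omega
  obtain ⟨s, hs, ht⟩ := exists_sep hSN hM hNM
  obtain ⟨s', hs', ht'⟩ := exists_sep hM hSN hNM.symm
  have hxs : IsM e (x ^ s) (S.prodMap (1 : Module.End F V')) := by
    have := hx.pow s
    rwa [prodMap_pow', hs, ht] at this
  have hos : orderOf (x ^ s) = N := by
    rw [hxs.orderOf, orderOf_prodMap, os₁, orderOf_one, Nat.lcm_one_right]
  refine ⟨x, hxO, ⟨s, ⟨?_, ?_, ?_⟩, ?_, ?_, ?_⟩, Q₁, S, e, s', hx, he, ht', hs', ?_⟩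
  · rwa [hos]
  · rw [hos]; exact hnum.prim
  · rw [hxs.finrank_range, finrank_range_prod_one, finrank_range_of_ker hker, hdim₁]
  · rwa [hos]
  · rwa [hos]
  · rwa [hos]
  · intro W hW hd w hw
    refine fst_zero (W := W.map (e : (ι → F) →ₗ[F] _)) hs ht hSN hcq hnum.prim hker ?_ (hx.inv_map hW) ⟨w, hw, rfl⟩
    rw [finrank_map_e]
    have := hnum.lt
    omega

/-- **the element `pos a + T₂`**, `a` odd -/
theorem exists_pn (hQ : Nondeg Q) {m a c l : ℕ} (h5 : 5 ≤ Fintype.card ι) (hac : a + c = m)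
    (ha : Odd a) (hl : Ppd (Nat.card F) a l) (hl2 : l ≠ 2) {Q₂ : QuadraticForm F V'} {ε : ℤ}
    (hdim : finrank F V' = 2 * c) (hnd : Nondeg Q₂) (hsg : HasSign (⇑Q₂) c ε) (hT : ∀ v, Q₂ (T v) = Q₂ v)
    {M : ℕ} (hM : T ^ M = 1) (hMo : Odd M) (hlM : l.Coprime M) (hmod : Mod Q m (1 * ε)) :
    ∃ x ∈ omegaGL ⇑Q, KillAt 2 x ∧ (∀ r : ℕ, r.Prime → r ≠ l → ¬ r ∣ 2 * c → KillAt r x) ∧
      ∃ (V : Type) (_ : AddCommGroup V) (_ : Module F V) (_ : Finite V) (S : Module.End F V)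
      (e : (ι → F) ≃ₗ[F] (V × V')), finrank F V = 2 * a ∧ IsM e x (S.prodMap T) ∧ S ^ l = 1 ∧
        LinearMap.ker (S - 1) = ⊥ := by
  have : FiniteDimensional F V' := Module.Finite.of_finite
  obtain ⟨V, i1, i2, i3, Q₁, S, P, hP⟩ := exists_pos F ha hl hl2
  have : FiniteDimensional F V := Module.Finite.of_finite
  have hSN : S ^ l = 1 := by rw [← hP.order]; exact pow_orderOf_eq_one S
  obtain ⟨e, he⟩ := hmod (V × V') (sumQ Q₁ Q₂) (by
    rw [Module.finrank_prod, hP.dim, hdim, ← hac]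
    ring) (sumQ_nondeg hP.nd hnd) (by
      have := hP.sign.prod hsg
      rwa [hac] at this)
  have hodd2 : Odd (orderOf (S.prodMap T : Module.End F (V × V'))) := by
    rw [orderOf_prodMap, hP.order]
    refine Odd.of_dvd_nat ((hl.prime.odd_of_ne_two hl2).mul hMo) ?_
    exact (Nat.lcm_dvd_mul _ _).trans (Nat.mul_dvd_mul_left _ (orderOf_dvd_of_pow_eq_one hM))
  obtain ⟨x, hxO, hx⟩ := exists_odd hQ h5 he (sumQ_isom hP.isom hT) hodd2
  obtain ⟨s, hs, ht⟩ := exists_sep hSN hM hlM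
  have hxs : IsM e (x ^ s) (S.prodMap (1 : Module.End F V')) := by
    have := hx.pow s
    rwa [prodMap_pow', hs, ht] at this
  have hos : orderOf (x ^ s) = l := by
    rw [hxs.orderOf, orderOf_prodMap, hP.order, orderOf_one, Nat.lcm_one_right]
  refine ⟨x, hxO, ⟨s, P, ?_, ?_⟩, ?_, V, i1, i2, i3, S, e, hP.dim, hx, hSN, hP.fix⟩
  · rw [hos]
    exact (Nat.coprime_primes hl.prime Nat.prime_two).2 hl2
  · rw [hxs.finrank_ker, finrank_ker_prodMap, hP.ker, finrank_ker_aeval_one _ hP.one, add_zero]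
    obtain ⟨k, rfl⟩ := ha
    omega
  · intro r hr hrl hrc
    refine ⟨s, X - 1, ?_, ?_⟩
    · rw [hos]
      exact (Nat.coprime_primes hl.prime hr).2 (Ne.symm hrl)
    · have h1 : ∀ {U : Type} [AddCommGroup U] [Module F U] (R : Module.End F U), aeval R (X - 1 : F[X]) = R - 1 := by
        intro U _ _ R
        rw [map_sub, aeval_X, map_one]
      rw [hxs.finrank_ker, finrank_ker_prodMap, h1, h1, hP.fix, finrank_bot, zero_add, sub_self, LinearMap.ker_zero,
        finrank_top, hdim]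
      exact hrc

end

end Cfsg.Agent.H688.Cov
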