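import Cfsg.Agent.H383.Cov.Parity
import Cfsg.Agent.H906.Cov.EKill
import Cfsg.Agent.H377.ToOmega

/-!
# S2499, orthogonal groups: the frame (helper688)

* `noTwo_frame` : three conjugation invariant predicates on `GL`, pairwise incompatible below `omegaGL Q`, each one
  satisfied by an element of `omegaGL Q`: then `POmega F Q` is not covered by two classes of proper subgroups;
* `exists_small` : a reducible group of isometries stabilises a nonzero subspace of dimension at most `n / 2`;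
* `InvIn`, `KillAt`, `NegB` : the three predicates used in the rows, with conjugation invariance;
* `noTwo_gen` : the general row.
-/

set_option autoImplicit false
set_option linter.unusedSectionVars false

namespace Cfsg.Agent.H688.Cov

open Cfsg Cfsg.Geo Module
open Cfsg.Agent.H278.Cov Cfsg.Agent.H383.Cov
open Cfsg.Agent.LieClassical.OrthCore (Nondeg)
open scoped MatrixGroups Matrix

universe u

variable {ι : Type} [Fintype ι] [DecidableEq ι] {F : Type u} [Field F]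

section frame

variable {Q : (ι → F) → F}

/-- invariance under conjugation by elements of `omegaGL Q` -/
def ConjInv (Q : (ι → F) → F) (P : GL ι F → Prop) : Prop :=
  ∀ x g : GL ι F, g ∈ omegaGL Q → P x → P (g * x * g⁻¹)

/-- no proper subgroup of `omegaGL Q` contains an element with `P` and an element with `R` -/
def IncP (Q : (ι → F) → F) (P R : GL ι F → Prop) : Prop :=
  ∀ H : Subgroup (GL ι F), H ≤ omegaGL Q → H ≠ omegaGL Q → ∀ x ∈ H, ∀ y ∈ H, P x → R y → False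

/-- the inclusion of `Ω` in `GL` -/
def inc (Q : (ι → F) → F) : Omega F Q →* GL ι F := (isometryGroup F Q).subtype.comp (Omega F Q).subtype

theorem inc_injective : Function.Injective (inc Q) :=
  (Subgroup.subtype_injective _).comp (Subgroup.subtype_injective _)

theorem range_inc : (inc Q).range = omegaGL Q := by
  rw [inc, MonoidHom.range_comp, Subgroup.range_subtype]
  rfl

theorem mem_omegaGL {x : GL ι F} : x ∈ omegaGL Q ↔ ∃ y, inc Q y = x := by
  rw [← range_inc]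
  rfl

theorem omegaGL_le : omegaGL Q ≤ isometryGroup F Q := by
  rintro _ ⟨y, -, rfl⟩
  exact y.2

theorem inc_of_incP {P R : GL ι F → Prop} (hP : ConjInv Q P) (hR : ConjInv Q R) (h : IncP Q P R)
    {x y : Omega F Q} (hx : P (inc Q x)) (hy : R (inc Q y)) : Inc x y := by
  intro K hK
  by_contra hcon
  rw [not_or] at hcon
  obtain ⟨g, hg⟩ := not_av hcon.1
  obtain ⟨k, hk⟩ := not_av hcon.2
  refine h (K.map (inc Q)) ?_ ?_ _ (Subgroup.mem_map_of_mem _ hg) _ (Subgroup.mem_map_of_mem _ hk) ?_ ?_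
  · rw [← range_inc]
    exact Subgroup.map_le_range _ _
  · intro he
    apply hK
    rw [← range_inc, MonoidHom.range_eq_map] at he
    exact Subgroup.map_injective inc_injective he
  · rw [map_mul, map_mul, map_inv]
    exact hP _ _ (mem_omegaGL.2 ⟨g, rfl⟩) hx
  · rw [map_mul, map_mul, map_inv]
    exact hR _ _ (mem_omegaGL.2 ⟨k, rfl⟩) hy

/-- **the frame** -/
theorem noTwo_frame {P₁ P₂ P₃ : GL ι F → Prop} (c₁ : ConjInv Q P₁) (c₂ : ConjInv Q P₂) (c₃ : ConjInv Q P₃)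
    (e₁ : ∃ x ∈ omegaGL Q, P₁ x) (e₂ : ∃ x ∈ omegaGL Q, P₂ x) (e₃ : ∃ x ∈ omegaGL Q, P₃ x)
    (h₁₂ : IncP Q P₁ P₂) (h₂₃ : IncP Q P₂ P₃) (h₁₃ : IncP Q P₁ P₃) : NoTwo (POmega F Q) := by
  obtain ⟨_, h1, p₁⟩ := e₁
  obtain ⟨_, h2, p₂⟩ := e₂
  obtain ⟨_, h3, p₃⟩ := e₃
  obtain ⟨x, rfl⟩ := mem_omegaGL.1 h1
  obtain ⟨y, rfl⟩ := mem_omegaGL.1 h2
  obtain ⟨z, rfl⟩ := mem_omegaGL.1 h3
  exact (noTwo_of_three (inc_of_incP c₁ c₂ h₁₂ p₁ p₂) (inc_of_incP c₂ c₃ h₂₃ p₂ p₃)
    (inc_of_incP c₁ c₃ h₁₃ p₁ p₃)).of_surjective (QuotientGroup.mk' _) (QuotientGroup.mk'_surjective _)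

end frame

section small

variable [Finite F] {Q : QuadraticForm F (ι → F)}

theorem isND (hQ : Nondeg Q) : IsNondegenerateQuadraticForm ⇑Q where
  smul c v := by rw [QuadraticMap.map_smul, smul_eq_mul, pow_two]
  polar_bilinear :=
    { add_left := fun x y v => QuadraticMap.polar_add_left Q x y v
      smul_left := fun c x v => by rw [QuadraticMap.polar_smul_left, smul_eq_mul]
      add_right := fun v x y => QuadraticMap.polar_add_right Q v x y
      smul_right := fun c v x => by rw [QuadraticMap.polar_smul_right, smul_eq_mul] }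
  nondegenerate := by
    intro v hv
    have h1 : ∃ x, QuadraticMap.polar Q v x ≠ 0 := by
      by_contra hcon
      push Not at hcon
      exact hv (hQ v hcon)
    obtain ⟨x, hx⟩ := h1
    exact ⟨⟨x, by rwa [QuadraticMap.polar_comm]⟩, ⟨x, hx⟩⟩

theorem mulVec_isom {x : GL ι F} (hx : x ∈ isometryGroup F ⇑Q) (v : ι → F) : Q ((x : Matrix ι ι F) *ᵥ v) = Q v := hx v v

/-- a reducible group of isometries stabilises a nonzero subspace of dimension at most `n / 2` -/
theorem exists_small (hQ : Nondeg Q) {H : Subgroup (GL ι F)} (hH : H ≤ isometryGroup F ⇑Q) (hr : Red H) :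
    ∃ W : Submodule F (ι → F), W ≠ ⊥ ∧ 2 * finrank F W ≤ Fintype.card ι ∧
      ∀ h ∈ H, ∀ w ∈ W, (h : Matrix ι ι F) *ᵥ w ∈ W := by
  obtain ⟨W, h0, h1, hst⟩ := hr
  have hinv : ∀ h ∈ H, ∀ w ∈ W, (h : Matrix ι ι F) *ᵥ w ∈ W := fun h hh w hw => (hst hh w).1 hw
  by_cases hd : 2 * finrank F W ≤ Fintype.card ι
  · exact ⟨W, h0, hd, hinv⟩
  have hB : (QuadraticMap.polarBilin Q).Nondegenerate := Cfsg.Agent.H377.nondegenerate_of_nondeg hQ
  have hrefl : (QuadraticMap.polarBilin Q).IsRefl := by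
    intro u v huv
    rw [QuadraticMap.polarBilin_apply_apply] at huv ⊢
    rwa [QuadraticMap.polar_comm]
  have hfr := LinearMap.BilinForm.finrank_orthogonal hB W
  rw [Module.finrank_fintype_fun_eq_card] at hfr
  have hlt : finrank F W < Fintype.card ι := by
    rw [← Module.finrank_fintype_fun_eq_card F (η := ι)]
    exact Submodule.finrank_lt h1
  refine ⟨LinearMap.BilinForm.orthogonal (QuadraticMap.polarBilin Q) W, ?_, by omega, ?_⟩
  · intro hb
    rw [hb, finrank_bot] at hfr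
    omega
  · intro h hh v hv
    rw [LinearMap.BilinForm.mem_orthogonal_iff] at hv ⊢
    intro w hw
    have h2 := hv _ (hinv _ (H.inv_mem hh) w hw)
    rw [QuadraticMap.polarBilin_apply_apply] at h2 ⊢
    have h3 := polar_isom (hH hh) (((h⁻¹ : GL ι F) : Matrix ι ι F) *ᵥ w) v
    rw [Matrix.mulVec_mulVec, ← Units.val_mul, mul_inv_cancel, Units.val_one, Matrix.one_mulVec] at h3
    rw [h3, h2]

end small

section preds

variable [Finite F] {Q : QuadraticForm F (ι → F)}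

/-- a set of subspaces stable under isometries -/
def Stable (Q : QuadraticForm F (ι → F)) (S : Set (Submodule F (ι → F))) : Prop :=
  ∀ g : GL ι F, g ∈ isometryGroup F ⇑Q → ∀ W ∈ S, W.map (Matrix.toLin' (g : Matrix ι ι F)) ∈ S

/-- every `x`-invariant subspace of dimension at most `n / 2` lies in `S` -/
def InvIn (x : GL ι F) (S : Set (Submodule F (ι → F))) : Prop :=
  ∀ W : Submodule F (ι → F), (∀ w ∈ W, (x : Matrix ι ι F) *ᵥ w ∈ W) → 2 * finrank F W ≤ Fintype.card ι → W ∈ S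

theorem finrank_map_gl (g : GL ι F) (W : Submodule F (ι → F)) :
    finrank F (W.map (Matrix.toLin' (g : Matrix ι ι F))) = finrank F W :=
  LinearEquiv.finrank_map_eq (eqv g) W

theorem map_inv_map (g : GL ι F) (W : Submodule F (ι → F)) :
    (W.map (Matrix.toLin' ((g⁻¹ : GL ι F) : Matrix ι ι F))).map (Matrix.toLin' (g : Matrix ι ι F)) = W := by
  rw [← Submodule.map_comp, ← Matrix.toLin'_mul, ← Units.val_mul, mul_inv_cancel, Units.val_one, Matrix.toLin'_one,
    Submodule.map_id]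

theorem InvIn.conj {x : GL ι F} {S : Set (Submodule F (ι → F))} (hS : Stable Q S) (h : InvIn x S) {g : GL ι F}
    (hg : g ∈ isometryGroup F ⇑Q) : InvIn (g * x * g⁻¹) S := by
  intro W hW hd
  rw [← map_inv_map g W]
  refine hS g hg _ (h _ ?_ ?_)
  · rintro _ ⟨w, hw, rfl⟩
    refine ⟨_, hW w hw, ?_⟩
    rw [Matrix.toLin'_apply, Matrix.toLin'_apply, Matrix.mulVec_mulVec, Matrix.mulVec_mulVec, ← Units.val_mul,
      ← Units.val_mul]
    congr 2
    group
  · rwa [finrank_map_gl]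

/-- the set of subspaces with dimension in `D` -/
def dimSet (ι : Type) [Fintype ι] (F : Type u) [Field F] (D : Set ℕ) : Set (Submodule F (ι → F)) :=
  {W | finrank F W ∈ D}

theorem stable_dimSet (D : Set ℕ) : Stable Q (dimSet ι F D) := by
  intro g _ W hW
  change finrank F _ ∈ D
  rw [finrank_map_gl]
  exact hW

/-- a power of `x` of order prime to `r` such that `r` does not divide the dimension of the kernel of a polynomial -/
def KillAt (r : ℕ) (x : GL ι F) : Prop :=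
  ∃ (s : ℕ) (P : Polynomial F), (orderOf (x ^ s)).Coprime r ∧
    ¬ r ∣ finrank F (LinearMap.ker (Polynomial.aeval (Matrix.toLin' ((x ^ s : GL ι F) : Matrix ι ι F)) P))

theorem conjpow (g x : GL ι F) (s : ℕ) : (g * x * g⁻¹) ^ s = g * x ^ s * g⁻¹ := conj_pow

theorem finrank_ker_aeval_conj (g x : GL ι F) (P : Polynomial F) :
    finrank F (LinearMap.ker (Polynomial.aeval (Matrix.toLin' ((g * x * g⁻¹ : GL ι F) : Matrix ι ι F)) P)) =
      finrank F (LinearMap.ker (Polynomial.aeval (Matrix.toLin' (x : Matrix ι ι F)) P)) := by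
  let φ : Module.End F (ι → F) ≃ₐ[F] Module.End F (ι → F) := (eqv g).conjAlgEquiv F
  have h1 : Matrix.toLin' ((g * x * g⁻¹ : GL ι F) : Matrix ι ι F) = φ (Matrix.toLin' (x : Matrix ι ι F)) := by
    rw [toLin_conj]
    rfl
  rw [h1, Polynomial.aeval_algHom_apply]
  have h2 : LinearMap.ker (φ (Polynomial.aeval (Matrix.toLin' (x : Matrix ι ι F)) P)) =
      (LinearMap.ker (Polynomial.aeval (Matrix.toLin' (x : Matrix ι ι F)) P)).map (eqv g : (ι → F) →ₗ[F] (ι → F)) := by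
    ext v
    rw [LinearMap.mem_ker]
    change eqv g ((Polynomial.aeval (Matrix.toLin' (x : Matrix ι ι F)) P) ((eqv g).symm v)) = 0 ↔ _
    rw [LinearEquiv.map_eq_zero_iff]
    constructor
    · intro h
      exact ⟨(eqv g).symm v, h, (eqv g).apply_symm_apply v⟩
    · rintro ⟨w, hw, rfl⟩
      have h3 : (eqv g).symm (eqv g w) = w := (eqv g).symm_apply_apply w
      change (Polynomial.aeval (Matrix.toLin' (x : Matrix ι ι F)) P) ((eqv g).symm (eqv g w)) = 0
      rw [h3]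
      exact hw
  rw [h2]
  exact LinearEquiv.finrank_map_eq (eqv g) _

theorem KillAt.conj {r : ℕ} {x : GL ι F} (h : KillAt r x) (g : GL ι F) : KillAt r (g * x * g⁻¹) := by
  obtain ⟨s, P, h1, h2⟩ := h
  refine ⟨s, P, ?_, ?_⟩
  · rwa [conjpow, orderOf_conj]
  · rwa [conjpow, finrank_ker_aeval_conj]

theorem KillAt.not_mem {r : ℕ} (hr : r.Prime) {x : GL ι F} (h : KillAt r x)
    {E : Subalgebra F (Matrix ι ι F)} (hE : IsFieldSubalgebra r E) : x ∉ subalgebraNormalizer E := by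
  intro hx
  obtain ⟨s, P, h1, h2⟩ := h
  exact h2 (Cfsg.Agent.H906.Cov.ext_dvd hr hE (Subgroup.pow_mem _ hx s) h1 P)

/-- a power of `x` is a block of minus type of rank `2 j` with the numerical conditions -/
def NegB (j : ℕ) (x : GL ι F) : Prop :=
  ∃ s : ℕ, Blk (2 * j) (x ^ s) ∧ Odd (orderOf (x ^ s)) ∧ orderOf (x ^ s) ∣ Nat.card F ^ j + 1 ∧
    Num (Nat.card F) (Fintype.card ι) (2 * j) (orderOf (x ^ s))

theorem NegB.conj {j : ℕ} {x : GL ι F} (h : NegB j x) (g : GL ι F) : NegB j (g * x * g⁻¹) := by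
  obtain ⟨s, h1, h2, h3, h4⟩ := h
  refine ⟨s, ?_, ?_, ?_, ?_⟩
  · rw [conjpow]; exact h1.conj g
  · rwa [conjpow, orderOf_conj]
  · rwa [conjpow, orderOf_conj]
  · rwa [conjpow, orderOf_conj]

end preds

/-- the statement OG-O (irreducible overgroups inside `Ω`) -/
def OgO (ι : Type) [Fintype ι] [DecidableEq ι] (F : Type u) [Field F] : Prop :=
  ∀ (k : ℕ) (Q : (ι → F) → F), IsNondegenerateQuadraticForm Q → ∀ H : Subgroup (GL ι F), H ≤ omegaGL Q →
    H ≠ omegaGL Q → ∀ g ∈ H, Num (Nat.card F) (Fintype.card ι) k (orderOf g) →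
      Red H ∨ Ext (Nat.gcd (Fintype.card ι) k) H

section gen

variable [Finite F] {Q : QuadraticForm F (ι → F)}

theorem pow_mulVec_mem {x : GL ι F} {W : Submodule F (ι → F)} (h : ∀ w ∈ W, (x : Matrix ι ι F) *ᵥ w ∈ W) (s : ℕ) :
    ∀ w ∈ W, ((x ^ s : GL ι F) : Matrix ι ι F) *ᵥ w ∈ W := by
  induction s with
  | zero => intro w hw; rw [pow_zero, Units.val_one, Matrix.one_mulVec]; exact hw
  | succ s ih =>
    intro w hw
    rw [pow_succ, Units.val_mul, ← Matrix.mulVec_mulVec]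
    exact ih _ (h w hw)

/-- **The general row.** -/
theorem noTwo_gen [Nonempty ι] (hQ : Nondeg Q) (og : OgO ι F) {j j' : ℕ} (hj : 1 ≤ j) (hj' : 1 ≤ j')
    {S₁ S₂ S₃ : Set (Submodule F (ι → F))} (st₁ : Stable Q S₁) (st₂ : Stable Q S₂) (st₃ : Stable Q S₃)
    (hA : ∃ x ∈ omegaGL ⇑Q, NegB j x ∧ InvIn x S₁) (hB : ∃ x ∈ omegaGL ⇑Q, NegB j' x ∧ InvIn x S₂)
    (hC : ∃ x ∈ omegaGL ⇑Q, InvIn x S₃ ∧
      ∀ r : ℕ, r.Prime → (r ∣ Nat.gcd (Fintype.card ι) (2 * j) ∨ r ∣ Nat.gcd (Fintype.card ι) (2 * j')) → KillAt r x)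
    (h12 : ∀ W ∈ S₁, W ∈ S₂ → W = ⊥) (h13 : ∀ W ∈ S₁, W ∈ S₃ → W = ⊥) (h23 : ∀ W ∈ S₂, W ∈ S₃ → W = ⊥)
    (hpar : Odd (j + j')) (h2 : ∀ r : ℕ, r.Prime → r ∣ Nat.gcd (Fintype.card ι) (2 * j') → r = 2) :
    NoTwo (POmega F ⇑Q) := by
  have hND := isND hQ
  -- a reducible group
  have hred : ∀ {S S' : Set (Submodule F (ι → F))}, (∀ W ∈ S, W ∈ S' → W = ⊥) → ∀ H : Subgroup (GL ι F),
      H ≤ omegaGL ⇑Q → ∀ x ∈ H, ∀ y ∈ H, InvIn x S → InvIn y S' → ¬ Red H := by
    intro S S' hSS H hH x hx y hy h1 h2 hr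
    obtain ⟨W, hW0, hWd, hW⟩ := exists_small hQ (hH.trans omegaGL_le) hr
    exact hW0 (hSS W (h1 W (hW x hx) hWd) (h2 W (hW y hy) hWd))
  refine noTwo_frame (P₁ := fun x => NegB j x ∧ InvIn x S₁) (P₂ := fun x => NegB j' x ∧ InvIn x S₂)
    (P₃ := fun x => InvIn x S₃ ∧
      ∀ r : ℕ, r.Prime → (r ∣ Nat.gcd (Fintype.card ι) (2 * j) ∨ r ∣ Nat.gcd (Fintype.card ι) (2 * j')) → KillAt r x)
    (fun x g hg h => ⟨h.1.conj g, h.2.conj st₁ (omegaGL_le hg)⟩)
    (fun x g hg h => ⟨h.1.conj g, h.2.conj st₂ (omegaGL_le hg)⟩)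
    (fun x g hg h => ⟨h.1.conj st₃ (omegaGL_le hg), fun r hr hd => (h.2 r hr hd).conj g⟩)
    hA hB hC ?_ ?_ ?_
  · intro H hH hne x hx y hy hX hY
    have hirr := hred h12 H hH x hx y hy hX.2 hY.2
    obtain ⟨⟨s, b1, b2, b3, b4⟩, -⟩ := hX
    obtain ⟨⟨t, c1, c2, c3, c4⟩, -⟩ := hY
    rcases og _ _ hND H hH hne (y ^ t) (H.pow_mem hy t) c4 with h | ⟨r, E, hr, hrd, hE, hN⟩
    · exact hirr h
    · obtain rfl := h2 r hr hrd
      have hI := hH.trans omegaGL_le
      rcases Nat.even_or_odd j with h3 | h3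
      · have h4 : Odd j' := by
          rw [← Nat.not_even_iff_odd]
          intro h
          exact (Nat.not_even_iff_odd.2 hpar) (h3.add h)
        exact parity hND hI hirr hE hN (H.pow_mem hx s) (H.pow_mem hy t) hj hj' h3 h4 b2 c2 b3 c3 b1 c1
      · have h4 : Even j' := by
          rw [← Nat.not_odd_iff_even]
          intro h
          exact (Nat.not_even_iff_odd.2 hpar) (h3.add_odd h)
        exact parity hND hI hirr hE hN (H.pow_mem hy t) (H.pow_mem hx s) hj' hj h4 h3 c2 b2 c3 b3 c1 b1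
  · intro H hH hne x hx y hy hX hY
    have hirr := hred h23 H hH x hx y hy hX.2 hY.1
    obtain ⟨⟨s, b1, b2, b3, b4⟩, -⟩ := hX
    rcases og _ _ hND H hH hne (x ^ s) (H.pow_mem hx s) b4 with h | ⟨r, E, hr, hrd, hE, hN⟩
    · exact hirr h
    · exact (hY.2 r hr (Or.inr hrd)).not_mem hr hE (hN hy)
  · intro H hH hne x hx y hy hX hY
    have hirr := hred h13 H hH x hx y hy hX.2 hY.1
    obtain ⟨⟨s, b1, b2, b3, b4⟩, -⟩ := hX
    rcases og _ _ hND H hH hne (x ^ s) (H.pow_mem hx s) b4 with h | ⟨r, E, hr, hrd, hE, hN⟩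
    · exact hirr h
    · exact (hY.2 r hr (Or.inl hrd)).not_mem hr hE (hN hy)

end gen

end Cfsg.Agent.H688.Cov
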