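import Cfsg.Agent.H688.Cov.Elems

/-!
# S2499, orthogonal groups: the kinds of elements (helper688)

* `negTriv` : `neg j` with trivial action on a complement of dimension `2 c`;
* `negHyp` : the same with complement a hyperbolic plane, with information on the fixed plane;
* `negPos` : `neg j + pos a`;
* `negDiag` : `neg j + (t, t)`, `t` in `O₂⁻(q)` without eigenvector;
* `posNeg` : `pos a + neg b`, `a` odd.
-/

set_option autoImplicit false
set_option linter.unusedSectionVars false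

namespace Cfsg.Agent.H688.Cov

open Cfsg Cfsg.Geo Module Polynomial
open Cfsg.Agent.H278.Cov Cfsg.Agent.H383.Cov
open Cfsg.Agent.LieClassical.OrthCore (Nondeg)
open Cfsg.Agent.H377 (HasSign sumQ sumQ_apply sumQ_nondeg hypQ hypQ_apply hypQ_nondeg hasSign_mul Elt elt_one
  elt_tor_minus elt_ell prodMap_pow' orderOf_prodMap)
open Cfsg.Agent.H689 (Ppd)
open scoped MatrixGroups Matrix

variable {ι : Type} [Fintype ι] [DecidableEq ι] {F : Type} [Field F] [Finite F] {Q : QuadraticForm F (ι → F)}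

/-- `neg j` with trivial action on the complement -/
theorem negTriv (hQ : Nondeg Q) {m j c N : ℕ} (hcard : Fintype.card ι = 2 * m) (hjc : j + c = m)
    (hnum : Num (Nat.card F) (Fintype.card ι) (2 * j) N) (hmod : Mod Q m (-1)) :
    ∃ x ∈ omegaGL ⇑Q, NegB j x ∧ InvIn x (dimSet ι F {d | d ≤ 2 * c}) := by
  obtain ⟨-, Q₂, T, nd, sg, is, os⟩ := elt_one (F := F) c
  have hT : T = 1 := orderOf_eq_one_iff.1 os
  obtain ⟨x, hx, hxN, Q₁, S, e, s, hM, he, -, -, hW⟩ := exists_negB hQ hcard hjc hnum (Module.finrank_fin_fun F) nd sg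
    (R := 1) (T := 1) (fun _ => rfl) (one_mul _) (M := 1) (one_pow _) (Nat.coprime_one_right _) (by rwa [mul_one])
  refine ⟨x, hx, hxN, fun W hWi hd => ?_⟩
  have h1 := finrank_le_of_fst (e := e) (hW W hWi hd)
  rwa [Module.finrank_fin_fun] at h1

/-- `neg j + pos a` -/
theorem negPos (hQ : Nondeg Q) {m j a l N : ℕ} (hcard : Fintype.card ι = 2 * m) (hja : j + a = m)
    (hnum : Num (Nat.card F) (Fintype.card ι) (2 * j) N) (ha : Odd a) (haj : a < 2 * j) (hl : Ppd (Nat.card F) a l)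
    (hl2 : l ≠ 2) (hmod : Mod Q m (-1)) :
    ∃ x ∈ omegaGL ⇑Q, NegB j x ∧ InvIn x (dimSet ι F {d | d ≤ 2 * a ∧ a ∣ d}) := by
  obtain ⟨V, i1, i2, i3, Q₂, T, P, hP⟩ := exists_pos F ha hl hl2
  have ha1 : 1 ≤ a := by obtain ⟨k, rfl⟩ := ha; omega
  have hTl : T ^ l = 1 := by rw [← hP.order]; exact pow_orderOf_eq_one T
  obtain ⟨k, hk⟩ := hl.prime.odd_of_ne_two hl2
  obtain ⟨x, hx, hxN, Q₁, S, e, s, hM, he, hs, ht, hW⟩ := exists_negB hQ hcard hja hnum hP.dim hP.nd hP.sign
    (R := T ^ (k + 1)) (T := T) (fun v => Cfsg.Agent.H377.isom_pow hP.isom _ v) (by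
      rw [← pow_add, show k + 1 + (k + 1) = (2 * k + 1) + 1 by ring, ← hk, pow_succ, hTl, one_mul]) (M := l) hTl
    (num_coprime hnum ((hl.iff a).2 dvd_rfl) ha1 haj) (by rwa [mul_one])
  refine ⟨x, hx, hxN, fun W hWi hd => ⟨?_, ?_⟩⟩
  · have h1 := finrank_le_of_fst (e := e) (hW W hWi hd)
    rwa [hP.dim] at h1
  · exact dvd_of_snd hM hWi (hW W hWi hd) hs ht hTl hl ha1 hP.fix

/-- `pos a + neg b`, `a` odd -/
theorem posNeg (hQ : Nondeg Q) {m a b l l' : ℕ} (h5 : 5 ≤ Fintype.card ι) (hab : a + b = m)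
    (ha : Odd a) (hl : Ppd (Nat.card F) a l) (hl2 : l ≠ 2) (hb : 2 ≤ b) (hl' : Ppd (Nat.card F) (2 * b) l')
    (hmod : Mod Q m (-1)) :
    ∃ x ∈ omegaGL ⇑Q, KillAt 2 x ∧ (∀ r : ℕ, r.Prime → r ≠ l → ¬ r ∣ 2 * b → KillAt r x) ∧
      InvIn x (dimSet ι F {d | d < 2 * b → a ∣ d}) := by
  have ha1 : 1 ≤ a := by obtain ⟨k, rfl⟩ := ha; omega
  have hq : 2 ≤ Nat.card F := Finite.one_lt_card
  have hl'2 : 2 < l' := hl'.two_lt (by omega)
  have hd : l' ∣ Nat.card F ^ b + 1 := by
    have h1 : l' ∣ (Nat.card F ^ b - 1) * (Nat.card F ^ b + 1) := by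
      have h2 : (Nat.card F ^ b - 1) * (Nat.card F ^ b + 1) = Nat.card F ^ (2 * b) - 1 := by
        have h3 := Nat.sq_sub_sq (Nat.card F ^ b) 1
        rw [one_pow, ← pow_mul, mul_comm b 2] at h3
        rw [h3, mul_comm]
      rw [h2]
      exact (hl'.iff _).2 dvd_rfl
    refine (ppd_cop hl' (by omega) (by omega)).dvd_of_dvd_mul_left h1
  obtain ⟨-, Q₂, T, nd, sg, is, os⟩ := elt_tor_minus (F := F) (k := b) (by omega) hd
  have hTl : T ^ l' = 1 := by rw [← os]; exact pow_orderOf_eq_one T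
  have hne : l ≠ l' := by
    rintro rfl
    have h1 := (hl'.iff a).1 ((hl.iff a).2 dvd_rfl)
    obtain ⟨k, rfl⟩ := ha
    have h2 : 2 ∣ 2 * k + 1 := (Dvd.intro _ rfl).trans h1
    omega
  have hcop : l.Coprime l' := (Nat.coprime_primes hl.prime hl'.prime).2 hne
  have hker : LinearMap.ker (T - 1) = ⊥ := by
    refine ker_sub_one hTl (ppd_copq hl') (fun i h1 h2 => ppd_cop hl' h1 h2) (Module.finrank_fin_fun F) ?_
    rintro rfl
    rw [orderOf_one] at os
    omega
  obtain ⟨x, hx, hk2, hkr, V, i1, i2, i3, S, e, hdimV, hM, hS, hSker⟩ := exists_pn hQ h5 hab ha hl hl2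
    (Module.finrank_fin_fun F) nd sg is hTl (hl'.prime.odd_of_ne_two (by omega)) hcop (by rwa [one_mul])
  have : FiniteDimensional F V := Module.Finite.of_finite
  refine ⟨x, hx, hk2, hkr, fun W hWi hdW hlt => ?_⟩
  obtain ⟨s, hs, ht⟩ := exists_sep hS hTl hcop
  obtain ⟨s', hs', ht'⟩ := exists_sep hTl hS hcop.symm
  refine dvd_of_fst hM hWi ?_ hs ht hS hl ha1 hSker
  intro w hw
  refine snd_zero (W := W.map (e : (ι → F) →ₗ[F] _)) ht' hs' hTl (ppd_copq hl')
    (fun i h1 h2 => ppd_cop hl' h1 h2) hker ?_ (hM.inv_map hWi) ⟨w, hw, rfl⟩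
  rw [finrank_map_e]
  exact hlt

/-! ### the refined sets -/

/-- dimension 0, 2, 4; a plane with a nonzero singular vector is totally singular -/
def setA (Q : QuadraticForm F (ι → F)) : Set (Submodule F (ι → F)) :=
  {W | finrank F W ≤ 4 ∧ 2 ∣ finrank F W ∧
    (finrank F W = 2 → (∃ v ∈ W, v ≠ 0 ∧ Q v = 0) → ∀ w ∈ W, Q w = 0)}

/-- dimension at most 2; a plane contains a nonzero singular vector and is not totally singular -/
def setB (Q : QuadraticForm F (ι → F)) : Set (Submodule F (ι → F)) :=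
  {W | finrank F W ≤ 2 ∧ (finrank F W = 2 → (∃ v ∈ W, v ≠ 0 ∧ Q v = 0) ∧ ∃ w ∈ W, Q w ≠ 0)}

theorem mulVec_ne_zero (g : GL ι F) {v : ι → F} (hv : v ≠ 0) : (g : Matrix ι ι F) *ᵥ v ≠ 0 := by
  intro h
  apply hv
  have h1 : ((g⁻¹ : GL ι F) : Matrix ι ι F) *ᵥ ((g : Matrix ι ι F) *ᵥ v) = 0 := by rw [h, Matrix.mulVec_zero]
  rwa [Matrix.mulVec_mulVec, ← Units.val_mul, inv_mul_cancel, Units.val_one, Matrix.one_mulVec] at h1

theorem stable_setA : Stable Q (setA Q) := by
  rintro g hg W ⟨h1, h2, h3⟩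
  refine ⟨by rwa [finrank_map_gl], by rwa [finrank_map_gl], ?_⟩
  rw [finrank_map_gl]
  rintro hW ⟨_, ⟨v, hv, rfl⟩, hv0, hvQ⟩ _ ⟨w, hw, rfl⟩
  rw [Matrix.toLin'_apply] at hv0 hvQ ⊢
  rw [mulVec_isom hg] at hvQ ⊢
  refine h3 hW ⟨v, hv, ?_, hvQ⟩ w hw
  rintro rfl
  exact hv0 (Matrix.mulVec_zero _)

theorem stable_setB : Stable Q (setB Q) := by
  rintro g hg W ⟨h1, h2⟩
  refine ⟨by rwa [finrank_map_gl], ?_⟩
  rw [finrank_map_gl]
  intro hW
  obtain ⟨⟨v, hv, hv0, hvQ⟩, w, hw, hwQ⟩ := h2 hW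
  refine ⟨⟨_, ⟨v, hv, rfl⟩, ?_, ?_⟩, _, ⟨w, hw, rfl⟩, ?_⟩
  · rw [Matrix.toLin'_apply]
    exact mulVec_ne_zero g hv0
  · rwa [Matrix.toLin'_apply, mulVec_isom hg]
  · rwa [Matrix.toLin'_apply, mulVec_isom hg]

theorem setA_setB {W : Submodule F (ι → F)} (hA : W ∈ setA Q) (hB : W ∈ setB Q) : W = ⊥ := by
  obtain ⟨-, ⟨k, hk⟩, h3⟩ := hA
  obtain ⟨h4, h5⟩ := hB
  rcases Nat.eq_zero_or_pos k with rfl | hk0
  · exact Submodule.finrank_eq_zero.1 hk
  · exfalso
    have h6 : finrank F W = 2 := by omega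
    obtain ⟨h7, w, hw, hw0⟩ := h5 h6
    exact hw0 (h3 h6 h7 w hw)

/-- `neg j` with complement a hyperbolic plane -/
theorem negHyp (hQ : Nondeg Q) {m j N : ℕ} (hcard : Fintype.card ι = 2 * m) (hjc : j + 1 = m)
    (hnum : Num (Nat.card F) (Fintype.card ι) (2 * j) N) (hmod : Mod Q m (-1)) :
    ∃ x ∈ omegaGL ⇑Q, NegB j x ∧ InvIn x (setB Q) := by
  have hdim : finrank F (F × F) = 2 * 1 := by rw [Module.finrank_prod, Module.finrank_self]
  obtain ⟨x, hx, hxN, Q₁, S, e, s, hM, he, -, -, hW⟩ := exists_negB hQ hcard hjc hnum hdim (hypQ_nondeg (F := F))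
    hasSign_mul (R := 1) (T := 1) (fun _ => rfl) (one_mul _) (M := 1) (one_pow _) (Nat.coprime_one_right _)
    (by rwa [mul_one])
  refine ⟨x, hx, hxN, fun W hWi hd => ?_⟩
  have h1 := finrank_le_of_fst (e := e) (hW W hWi hd)
  rw [hdim] at h1
  refine ⟨by omega, fun h2 => ?_⟩
  have h3 : W.map (e : (ι → F) →ₗ[F] _) = (⊥ : Submodule F (Fin (2 * j) → F)).prod (⊤ : Submodule F (F × F)) := by
    apply Submodule.eq_of_le_of_finrank_eq
    · rintro _ ⟨w, hw, rfl⟩
      exact ⟨hW W hWi hd w hw, trivial⟩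
    · rw [finrank_submodule_prod, finrank_map_e, finrank_bot, finrank_top, hdim, h2]
  have h4 : ∀ u : F × F, ∃ w ∈ W, e w = (0, u) := by
    intro u
    have h5 : ((0, u) : (Fin (2 * j) → F) × (F × F)) ∈ W.map (e : (ι → F) →ₗ[F] _) := by
      rw [h3]
      exact ⟨rfl, trivial⟩
    obtain ⟨w, hw, hwe⟩ := h5
    exact ⟨w, hw, hwe⟩
  have h5 : ∀ {w : ι → F} {u : F × F}, e w = (0, u) → Q w = u.1 * u.2 := by
    intro w u hw
    rw [← he, hw, sumQ_apply, hypQ_apply]
    change Q₁ 0 + _ = _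
    rw [QuadraticMap.map_zero, zero_add]
  obtain ⟨v, hv, hve⟩ := h4 (1, 0)
  obtain ⟨w, hw, hwe⟩ := h4 (1, 1)
  refine ⟨⟨v, hv, ?_, ?_⟩, w, hw, ?_⟩
  · rintro rfl
    rw [map_zero] at hve
    have := congrArg (fun z => z.2.1) hve
    exact one_ne_zero this.symm
  · rw [h5 hve]; simp
  · rw [h5 hwe]; simp

section diag

variable {V₀ : Type} [AddCommGroup V₀] [Module F V₀] [Finite V₀] {Q₀ : QuadraticForm F V₀} {t : Module.End F V₀}

/-- an isometry of order `q + 1` of an anisotropic plane has no eigenvector -/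
theorem noEig (hdim : finrank F V₀ = 2) (han : ∀ v, Q₀ v = 0 → v = 0)
    (ht : ∀ v, Q₀ (t v) = Q₀ v) (ho : orderOf t = Nat.card F + 1) {v : V₀} {c : F} (hv : t v = c • v) : v = 0 := by
  have : FiniteDimensional F V₀ := Module.Finite.of_finite
  by_contra hv0
  -- eigenvalues are `± 1`
  have key : ∀ {u : V₀} {c : F}, u ≠ 0 → t u = c • u → t (t u) = u := by
    intro u c hu h
    have h1 := ht u
    rw [h, QuadraticMap.map_smul, smul_eq_mul] at h1
    have h2 : Q₀ u ≠ 0 := fun h0 => hu (han u h0)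
    have h3 : c * c = 1 := by
      have h4 : (c * c - 1) * Q₀ u = 0 := by linear_combination h1
      exact sub_eq_zero.1 ((mul_eq_zero.1 h4).resolve_right h2)
    rw [h, map_smul, h, smul_smul, h3, one_smul]
  have hcop : (Nat.card F + 1).Coprime (Nat.card F) := by simp
  have h1 : (t ^ 2) ^ (Nat.card F + 1) = 1 := by
    rw [← pow_mul, mul_comm, pow_mul, ← ho, pow_orderOf_eq_one, one_pow]
  have h2 : t ^ 2 = 1 := by
    rw [← sub_eq_zero]
    apply LinearMap.ext
    intro z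
    rw [LinearMap.zero_apply]
    by_contra hu
    set u := (t ^ 2 - 1 : Module.End F V₀) z with hudef
    -- the range of `t² - 1` is a line
    have hker : v ∈ LinearMap.ker (t ^ 2 - 1) := by
      rw [LinearMap.mem_ker, LinearMap.sub_apply, pow_two, Module.End.mul_apply, key hv0 hv, Module.End.one_apply,
        sub_self]
    have h3 := LinearMap.finrank_range_add_finrank_ker (t ^ 2 - 1)
    have h4 : 0 < finrank F (LinearMap.ker (t ^ 2 - 1)) := by
      rw [Nat.pos_iff_ne_zero]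
      intro h
      rw [Submodule.finrank_eq_zero.1 h] at hker
      exact hv0 ((Submodule.mem_bot F).1 hker)
    have hur : u ∈ LinearMap.range (t ^ 2 - 1) := ⟨z, rfl⟩
    have h5 : finrank F (LinearMap.range (t ^ 2 - 1)) ≤ 1 := by omega
    obtain ⟨u₀, hu₀⟩ := (Submodule.finrank_le_one_iff_isPrincipal _).1 h5
    have htu : t u ∈ LinearMap.range (t ^ 2 - 1) := by
      refine ⟨t z, ?_⟩
      rw [hudef, LinearMap.sub_apply, LinearMap.sub_apply, map_sub]
      rfl
    rw [hu₀] at hur htu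
    obtain ⟨α, hα⟩ := Submodule.mem_span_singleton.1 hur
    obtain ⟨β, hβ⟩ := Submodule.mem_span_singleton.1 htu
    have hα0 : α ≠ 0 := by
      rintro rfl
      rw [zero_smul] at hα
      exact hu hα.symm
    have h6 : t u = (β * α⁻¹) • u := by
      rw [← hβ, ← hα, smul_smul, mul_assoc, inv_mul_cancel₀ hα0, mul_one]
    have h7 : (t ^ 2) u = u := by
      rw [pow_two, Module.End.mul_apply]
      exact key hu h6
    exact hu (eq_zero_of_fix h1 hcop (v := z) rfl h7)
  have h3 := orderOf_dvd_of_pow_eq_one h2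
  rw [ho] at h3
  have := Nat.le_of_dvd (by norm_num) h3
  have hq2 : 1 < Nat.card F := Finite.one_lt_card
  omega

/-- A nondegenerate plane of sign `-1` is anisotropic. -/
theorem aniso_of_sign (hnd : Nondeg Q₀) (h2 : finrank F V₀ = 2 * 1) (hs : HasSign (⇑Q₀) 1 (-1)) {w : V₀}
    (hw : Q₀ w = 0) : w = 0 := by
  have : FiniteDimensional F V₀ := Module.Finite.of_finite
  rcases Cfsg.Agent.H377.classify_all (m := 1) le_rfl h2 Q₀ hnd with ⟨e, he⟩ | ⟨ζ, hζ, e, he⟩
  · exfalso
    have h1 := ((Cfsg.Agent.H377.hasSign_quadFormPlus (F := F) 1).congr e.toEquiv he)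
    have h2 := (hs.sign_eq h1 (Or.inr rfl) (Or.inl rfl)).1
    omega
  · obtain ⟨v, rfl⟩ := e.surjective w
    rw [he, Cfsg.Agent.LieClassical.OrthForms.quadFormMinus_apply] at hw
    have h3 : v (Sum.inr 0) ^ 2 + 1 * v (Sum.inr 0) * v (Sum.inr 1) + ζ * v (Sum.inr 1) ^ 2 = 0 := by
      rw [← hw]
      simp
    obtain ⟨h4, h5⟩ := hζ _ _ h3
    have h6 : v = 0 := by
      funext i
      rcases i with (i | i) | i
      · exact i.elim0
      · exact i.elim0
      · fin_cases i
        · exact h4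
        · exact h5
    rw [h6, map_zero]

variable (hdim : finrank F V₀ = 2) (hne : ∀ {v : V₀} {c : F}, t v = c • v → v = 0)

include hdim hne

theorem irr {U : Submodule F V₀} (hU : ∀ u ∈ U, t u ∈ U) : finrank F U = 0 ∨ finrank F U = 2 := by
  have : FiniteDimensional F V₀ := Module.Finite.of_finite
  have h1 := Submodule.finrank_le U
  rw [hdim] at h1
  have h2 : finrank F U ≠ 1 := by
    intro h
    obtain ⟨⟨u, hu⟩, hu0, hspan⟩ := finrank_eq_one_iff'.1 h
    obtain ⟨c, hc⟩ := hspan ⟨t u, hU u hu⟩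
    have h3 : t u = c • u := (congrArg Subtype.val hc).symm
    exact hu0 (Subtype.ext (hne h3))
  omega

theorem noSq (ho : ¬ orderOf t ∣ 2) {v : V₀} (hv : t (t v) = v) : v = 0 := by
  have : FiniteDimensional F V₀ := Module.Finite.of_finite
  have hinv : ∀ u ∈ LinearMap.ker (t * t - 1), t u ∈ LinearMap.ker (t * t - 1) := by
    intro u hu
    rw [LinearMap.mem_ker, LinearMap.sub_apply, Module.End.mul_apply, Module.End.one_apply, sub_eq_zero] at hu ⊢
    rw [hu]
  rcases irr hdim (fun {v c} h => hne h) hinv with h | h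
  · rw [Submodule.finrank_eq_zero] at h
    have h1 : v ∈ LinearMap.ker (t * t - 1) := by
      rw [LinearMap.mem_ker, LinearMap.sub_apply, Module.End.mul_apply, Module.End.one_apply, sub_eq_zero]
      exact hv
    rw [h] at h1
    exact (Submodule.mem_bot F).1 h1
  · exfalso
    have h1 : LinearMap.ker (t * t - 1) = ⊤ := Submodule.eq_top_of_finrank_eq (h.trans hdim.symm)
    apply ho
    apply orderOf_dvd_of_pow_eq_one
    rw [pow_two, ← sub_eq_zero]
    exact LinearMap.ker_eq_top.1 h1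

theorem even_rank {U : Submodule F (V₀ × V₀)} (hU : ∀ u ∈ U, (t.prodMap t) u ∈ U) : 2 ∣ finrank F U := by
  have : FiniteDimensional F V₀ := Module.Finite.of_finite
  let f : U →ₗ[F] V₀ := (LinearMap.fst F V₀ V₀).comp U.subtype
  have h1 := LinearMap.finrank_range_add_finrank_ker f
  have h2 : finrank F (LinearMap.range f) = 0 ∨ finrank F (LinearMap.range f) = 2 := by
    refine irr hdim (fun {v c} h => hne h) ?_
    rintro _ ⟨u, rfl⟩
    exact ⟨⟨_, hU u u.2⟩, rfl⟩
  let U₂ : Submodule F V₀ := U.comap (LinearMap.inr F V₀ V₀)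
  have h3 : finrank F U₂ = 0 ∨ finrank F U₂ = 2 := by
    refine irr hdim (fun {v c} h => hne h) ?_
    intro u hu
    have h4 : ((0 : V₀), u) ∈ U := hu
    have h5 := hU _ h4
    change ((t 0 : V₀), t u) ∈ U at h5
    rw [map_zero] at h5
    exact h5
  have h4 : finrank F (LinearMap.ker f) = finrank F U₂ := by
    have hmem : ∀ u : U, f u = 0 → u.1 = (0, u.1.2) := fun u hu => Prod.ext hu rfl
    exact LinearEquiv.finrank_eq
      { toFun := fun u => ⟨u.1.1.2, by
          change ((0 : V₀), u.1.1.2) ∈ U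
          rw [← hmem u.1 u.2]
          exact u.1.2⟩
        invFun := fun u => ⟨⟨(0, u.1), u.2⟩, rfl⟩
        map_add' := fun _ _ => rfl
        map_smul' := fun _ _ => rfl
        left_inv := fun u => Subtype.ext (Subtype.ext (hmem u.1 u.2).symm)
        right_inv := fun _ => rfl }
  omega

end diag

/-- `neg j + (t, t)` -/
theorem negDiag (hQ : Nondeg Q) {m j N : ℕ} (hcard : Fintype.card ι = 2 * m) (hjc : j + 2 = m)
    (hnum : Num (Nat.card F) (Fintype.card ι) (2 * j) N)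
    {Q₀ : QuadraticForm F (Fin (2 * 1) → F)} {t : Module.End F (Fin (2 * 1) → F)} (nd : Nondeg Q₀)
    (sg : HasSign (⇑Q₀) 1 (-1)) (is : ∀ v, Q₀ (t v) = Q₀ v) (ho : ¬ orderOf t ∣ 2)
    (hoq : orderOf t ∣ Nat.card F + 1) (hne : ∀ {v : Fin (2 * 1) → F} {c : F}, t v = c • v → v = 0)
    (hmod : Mod Q m (-1)) :
    ∃ x ∈ omegaGL ⇑Q, NegB j x ∧ InvIn x (setA Q) := by
  have hdim : finrank F (Fin (2 * 1) → F) = 2 := by rw [Module.finrank_fin_fun]
  have hdim2 : finrank F ((Fin (2 * 1) → F) × (Fin (2 * 1) → F)) = 2 * 2 := by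
    rw [Module.finrank_prod, hdim]
  let R : Module.End F ((Fin (2 * 1) → F) × (Fin (2 * 1) → F)) :=
    (t.comp (LinearMap.snd F _ _)).prod (LinearMap.fst F _ _)
  have hj := (num_facts Finite.one_lt_card hnum).2.2.2.2
  have h10 := hnum.ten
  have hNM : N.Coprime (orderOf t) := by
    refine Nat.Coprime.coprime_dvd_right hoq ?_
    refine num_coprime hnum (c := 2) ?_ (by norm_num) (by omega)
    have h3 := Nat.sq_sub_sq (Nat.card F) 1
    rw [one_pow] at h3
    rw [h3]
    exact Dvd.intro _ rfl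
  obtain ⟨x, hx, hxN, Q₁, S, e, s, hM, he, -, -, hW⟩ := exists_negB hQ hcard hjc hnum hdim2 (sumQ_nondeg nd nd)
    (sg.prod sg) (R := R) (T := t.prodMap t) (by
      intro v
      change Q₀ (t v.2) + Q₀ v.1 = Q₀ v.1 + Q₀ v.2
      rw [is, add_comm]) rfl (M := orderOf t) (by
        rw [prodMap_pow', pow_orderOf_eq_one]
        rfl) hNM (by norm_num; exact hmod)
  refine ⟨x, hx, hxN, fun W hWi hd => ?_⟩
  have hW1 := hW W hWi hd
  have h1 := finrank_le_of_fst (e := e) hW1
  rw [hdim2] at h1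
  have hxe : ∀ w ∈ W, (e ((x : Matrix ι ι F) *ᵥ w)).2 = (t (e w).2.1, t (e w).2.2) := by
    intro w hw
    rw [hM.apply, e.apply_symm_apply]
    rfl
  -- no eigenvector in `W`
  have hev : ∀ w ∈ W, ∀ c : F, (x : Matrix ι ι F) *ᵥ w = c • w → w = 0 := by
    intro w hw c hc
    have h2 := hxe w hw
    rw [hc, map_smul] at h2
    have h3 : t (e w).2.1 = c • (e w).2.1 := (congrArg Prod.fst h2).symm
    have h4 : t (e w).2.2 = c • (e w).2.2 := (congrArg Prod.snd h2).symm
    rw [← LinearEquiv.map_eq_zero_iff e]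
    exact Prod.ext (hW1 w hw) (Prod.ext (hne h3) (hne h4))
  refine ⟨by omega, ?_, fun h2 hv => ?_⟩
  · -- even dimension
    let f : (ι → F) →ₗ[F] ((Fin (2 * 1) → F) × (Fin (2 * 1) → F)) :=
      (LinearMap.snd F (Fin (2 * j) → F) _).comp
        (e : (ι → F) →ₗ[F] (Fin (2 * j) → F) × ((Fin (2 * 1) → F) × (Fin (2 * 1) → F)))
    have h3 : finrank F (W.map f) = finrank F W := by
      have hinj : Function.Injective (f.comp W.subtype) := by
        rw [← LinearMap.ker_eq_bot, LinearMap.ker_eq_bot']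
        intro w hw
        have h4 : e w = 0 := Prod.ext (hW1 w w.2) hw
        exact Subtype.ext ((LinearEquiv.map_eq_zero_iff e).1 h4)
      have h4 := LinearMap.finrank_range_of_inj hinj
      rwa [LinearMap.range_comp, Submodule.range_subtype] at h4
    rw [← h3]
    refine even_rank hdim (fun {v c} h => hne h) ?_
    rintro _ ⟨w, hw, rfl⟩
    exact ⟨_, hWi w hw, hxe w hw⟩
  · obtain ⟨v, hvW, hv0, hvQ⟩ := hv
    set u := (x : Matrix ι ι F) *ᵥ v with hu
    have hxI := omegaGL_le hx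
    have huW : u ∈ W := hWi v hvW
    have hu0 : u ≠ 0 := mulVec_ne_zero x hv0
    have huQ : Q u = 0 := by rw [hu, mulVec_isom hxI, hvQ]
    have hli : LinearIndependent F ![v, u] := by
      rw [LinearIndependent.pair_iff]
      intro α γ h
      have hγ : γ = 0 := by
        by_contra hγ
        apply hv0
        refine hev v hvW (-(γ⁻¹ * α)) ?_
        rw [← hu]
        have h3 : γ • u = -(α • v) := by rw [eq_neg_iff_add_eq_zero, add_comm]; exact h
        have h4 : u = γ⁻¹ • (γ • u) := by rw [smul_smul, inv_mul_cancel₀ hγ, one_smul]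
        rw [h4, h3, smul_neg, smul_smul, neg_smul]
      rw [hγ, zero_smul, add_zero] at h
      exact ⟨(smul_eq_zero.1 h).resolve_right hv0, hγ⟩
    have hspan : Submodule.span F (Set.range ![v, u]) = W := by
      apply Submodule.eq_of_le_of_finrank_eq
      · rw [Submodule.span_le]
        rintro _ ⟨i, rfl⟩
        fin_cases i
        · exact hvW
        · exact huW
      · rw [finrank_span_eq_card hli, h2, Fintype.card_fin]
    have hcomb : ∀ w ∈ W, ∃ α γ : F, w = α • v + γ • u := by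
      intro w hw
      rw [← hspan, Matrix.range_cons, Matrix.range_cons, Matrix.range_empty, Set.union_empty, Set.singleton_union,
        Submodule.mem_span_pair] at hw
      obtain ⟨α, γ, h⟩ := hw
      exact ⟨α, γ, h.symm⟩
    have hQc : ∀ α γ : F, Q (α • v + γ • u) = α * γ * QuadraticMap.polar Q v u := by
      intro α γ
      have h3 : Q (α • v + γ • u) = QuadraticMap.polar Q (α • v) (γ • u) + Q (α • v) + Q (γ • u) := by
        rw [QuadraticMap.polar]
        ring
      rw [h3, QuadraticMap.map_smul, QuadraticMap.map_smul, hvQ, huQ, QuadraticMap.polar_smul_left,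
        QuadraticMap.polar_smul_right]
      simp only [smul_eq_mul]
      ring
    have hβ : QuadraticMap.polar Q v u = 0 := by
      by_contra hβ
      obtain ⟨α, γ, hαγ⟩ := hcomb _ (hWi u huW)
      have h3 : Q ((x : Matrix ι ι F) *ᵥ u) = 0 := by rw [mulVec_isom hxI, huQ]
      rw [hαγ, hQc] at h3
      have h4 := (mul_eq_zero.1 h3).resolve_right hβ
      rcases mul_eq_zero.1 h4 with rfl | rfl
      · rw [zero_smul, zero_add] at hαγ
        exact hu0 (hev u huW γ hαγ)
      · rw [zero_smul, add_zero] at hαγ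
        have h5 : QuadraticMap.polar Q ((x : Matrix ι ι F) *ᵥ v) ((x : Matrix ι ι F) *ᵥ u) = QuadraticMap.polar Q v u :=
          polar_isom hxI v u
        rw [← hu, hαγ, QuadraticMap.polar_smul_right, QuadraticMap.polar_comm, smul_eq_mul] at h5
        have h6 : α = 1 := by
          have h7 : (α - 1) * QuadraticMap.polar Q v u = 0 := by linear_combination h5
          exact sub_eq_zero.1 ((mul_eq_zero.1 h7).resolve_right hβ)
        rw [h6, one_smul] at hαγ
        have h8 := hxe u huW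
        rw [hαγ, hu, hxe v hvW] at h8
        have h9 : (e v).2.1 = t (t (e v).2.1) := congrArg Prod.fst h8
        have h10 : (e v).2.2 = t (t (e v).2.2) := congrArg Prod.snd h8
        apply hv0
        rw [← LinearEquiv.map_eq_zero_iff e]
        exact Prod.ext (hW1 v hvW) (Prod.ext (noSq hdim (fun {v c} h => hne h) ho h9.symm)
          (noSq hdim (fun {v c} h => hne h) ho h10.symm))
    intro w hw
    obtain ⟨α, γ, rfl⟩ := hcomb w hw
    rw [hQc, hβ, mul_zero]

end Cfsg.Agent.H688.Cov
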