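import Cfsg.Agent.H688.Cov.Frame

/-!
# S2499, orthogonal groups: elements of `omegaGL Q` from isometries of abstract quadratic spaces (helper688)

* `exists_gl` : an isometry `T` of `(V', Q')`, `e : (ι → F) ≃ V'` an isometry: an element `x` of the isometry group with
  `toLin' x = e⁻¹ T e`;
* `mem_omegaGL_of_odd`, `mem_omegaGL_of_sq`;
* `IsM e x T` : `toLin' x = e⁻¹ T e`, with its consequences (powers, orders, kernels, invariant subspaces).
-/

set_option autoImplicit false
set_option linter.unusedSectionVars false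

namespace Cfsg.Agent.H688.Cov

open Cfsg Cfsg.Geo Module
open Cfsg.Agent.H278.Cov Cfsg.Agent.H383.Cov
open Cfsg.Agent.LieClassical.OrthCore (Nondeg)
open scoped MatrixGroups Matrix

universe u v

variable {ι : Type} [Fintype ι] [DecidableEq ι] {F : Type u} [Field F] [Finite F]

/-- `x` is `T` in the coordinates `e` -/
def IsM {V : Type v} [AddCommGroup V] [Module F V] (e : (ι → F) ≃ₗ[F] V) (x : GL ι F) (T : Module.End F V) : Prop :=
  Matrix.toLin' (x : Matrix ι ι F) = e.symm.conjAlgEquiv F T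

section

variable {V : Type v} [AddCommGroup V] [Module F V] {e : (ι → F) ≃ₗ[F] V} {x y : GL ι F} {T S : Module.End F V}

theorem IsM.apply (h : IsM e x T) (v : ι → F) : (x : Matrix ι ι F) *ᵥ v = e.symm (T (e v)) := by
  rw [← Matrix.toLin'_apply, h]
  rfl

theorem isM_of_apply (h : ∀ v, (x : Matrix ι ι F) *ᵥ v = e.symm (T (e v))) : IsM e x T := by
  apply LinearMap.ext
  intro v
  rw [Matrix.toLin'_apply, h]
  rfl

theorem IsM.mul (h : IsM e x T) (h' : IsM e y S) : IsM e (x * y) (T * S) := by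
  rw [IsM, map_mul, ← h, ← h', Units.val_mul, Matrix.toLin'_mul]
  rfl

theorem isM_one : IsM e (1 : GL ι F) 1 := by
  rw [IsM, map_one, Units.val_one, Matrix.toLin'_one]
  rfl

theorem IsM.pow (h : IsM e x T) (s : ℕ) : IsM e (x ^ s) (T ^ s) := by
  induction s with
  | zero => rw [pow_zero, pow_zero]; exact isM_one
  | succ s ih => rw [pow_succ, pow_succ]; exact ih.mul h

theorem IsM.eq_one_iff (h : IsM e x T) : x = 1 ↔ T = 1 := by
  constructor
  · rintro rfl
    have h1 : (e.symm.conjAlgEquiv F) T = 1 := by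
      rw [← h, Units.val_one, Matrix.toLin'_one]
      rfl
    exact (e.symm.conjAlgEquiv F).injective (h1.trans (map_one _).symm)
  · rintro rfl
    apply Units.ext
    apply Matrix.toLin'.injective
    rw [h, map_one, Units.val_one, Matrix.toLin'_one]
    rfl

theorem IsM.orderOf (h : IsM e x T) : orderOf x = orderOf T := by
  rw [orderOf_eq_orderOf_iff]
  intro n
  exact (h.pow n).eq_one_iff

/-- kernels of polynomials -/
theorem IsM.finrank_ker (h : IsM e x T) (P : Polynomial F) :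
    finrank F (LinearMap.ker (Polynomial.aeval (Matrix.toLin' (x : Matrix ι ι F)) P)) =
      finrank F (LinearMap.ker (Polynomial.aeval T P)) := by
  rw [h, Polynomial.aeval_algHom_apply]
  have h2 : LinearMap.ker (e.symm.conjAlgEquiv F (Polynomial.aeval T P)) =
      (LinearMap.ker (Polynomial.aeval T P)).map (e.symm : V →ₗ[F] (ι → F)) := by
    ext v
    rw [LinearMap.mem_ker]
    change e.symm ((Polynomial.aeval T P) (e v)) = 0 ↔ _
    rw [LinearEquiv.map_eq_zero_iff]
    constructor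
    · intro h
      exact ⟨e v, h, e.symm_apply_apply v⟩
    · rintro ⟨w, hw, rfl⟩
      change (Polynomial.aeval T P) (e (e.symm w)) = 0
      rw [e.apply_symm_apply]
      exact hw
  rw [h2]
  exact LinearEquiv.finrank_map_eq e.symm _

/-- the rank of `x - 1` -/
theorem IsM.finrank_range (h : IsM e x T) :
    finrank F (LinearMap.range (Matrix.toLin' (x : Matrix ι ι F) - 1)) = finrank F (LinearMap.range (T - 1)) := by
  have h1 : Matrix.toLin' (x : Matrix ι ι F) - 1 = e.symm.conjAlgEquiv F (T - 1) := by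
    rw [map_sub, ← h, map_one]
  have h2 : LinearMap.range (e.symm.conjAlgEquiv F (T - 1)) =
      (LinearMap.range (T - 1)).map (e.symm : V →ₗ[F] (ι → F)) := by
    ext v
    constructor
    · rintro ⟨w, rfl⟩
      exact ⟨(T - 1) (e w), ⟨e w, rfl⟩, rfl⟩
    · rintro ⟨_, ⟨w, rfl⟩, rfl⟩
      refine ⟨e.symm w, ?_⟩
      change e.symm ((T - 1) (e (e.symm w))) = e.symm ((T - 1) w)
      rw [e.apply_symm_apply]
  rw [h1, h2]
  exact LinearEquiv.finrank_map_eq e.symm _

/-- the invariant subspaces of `x` are those of `T` -/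
theorem IsM.inv_map (h : IsM e x T) {W : Submodule F (ι → F)} (hW : ∀ w ∈ W, (x : Matrix ι ι F) *ᵥ w ∈ W) :
    ∀ w ∈ W.map (e : (ι → F) →ₗ[F] V), T w ∈ W.map (e : (ι → F) →ₗ[F] V) := by
  rintro _ ⟨w, hw, rfl⟩
  refine ⟨_, hW w hw, ?_⟩
  rw [h.apply]
  exact e.apply_symm_apply _

theorem finrank_map_e (W : Submodule F (ι → F)) : finrank F (W.map (e : (ι → F) →ₗ[F] V)) = finrank F W :=
  LinearEquiv.finrank_map_eq e _

variable {Q : QuadraticForm F (ι → F)} {Q' : QuadraticForm F V}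

/-- an isometry gives an element of the isometry group -/
theorem exists_gl (hQ : Nondeg Q) (he : ∀ u, Q' (e u) = Q u) (hT : ∀ v, Q' (T v) = Q' v) :
    ∃ x : GL ι F, x ∈ isometryGroup F ⇑Q ∧ IsM e x T := by
  classical
  let φ : Module.End F V ≃ₐ[F] Matrix ι ι F := (e.symm.conjAlgEquiv F).trans LinearMap.toMatrixAlgEquiv'
  have hφ : ∀ x : ι → F, (φ T).mulVec x = e.symm (T (e x)) := by
    intro x
    change (LinearMap.toMatrix' (e.symm.conj T)).mulVec x = _
    rw [LinearMap.toMatrix'_mulVec]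
    rfl
  have hM : ∀ x, Q ((φ T).mulVec x) = Q x := by
    intro x
    rw [← he, ← he, hφ, e.apply_symm_apply, hT]
  have hinj : ∀ x, (φ T).mulVec x = 0 → x = 0 := by
    intro x hx
    apply hQ
    intro y
    have h1 : QuadraticMap.polar Q ((φ T).mulVec x) ((φ T).mulVec y) = QuadraticMap.polar Q x y := by
      rw [QuadraticMap.polar, QuadraticMap.polar, ← Matrix.mulVec_add, hM, hM, hM]
    rw [← h1, hx]
    simp [QuadraticMap.polar]
  have hunit : IsUnit (φ T) := by
    rw [← Matrix.mulVec_injective_iff_isUnit]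
    intro x y hxy
    have h1 : (φ T).mulVec (x - y) = 0 := by
      rw [Matrix.mulVec_sub]
      exact sub_eq_zero.2 hxy
    exact sub_eq_zero.1 (hinj _ h1)
  obtain ⟨M, hM'⟩ := hunit
  refine ⟨M, ?_, isM_of_apply fun v => by rw [hM', hφ]⟩
  rw [Cfsg.Agent.LieClassical.OrthFinite.mem_isometryGroup_iff]
  intro x
  rw [hM']
  exact hM x

theorem mul_self_mem (hQ : Nondeg Q) (h5 : 5 ≤ Fintype.card ι) {x : GL ι F} (hx : x ∈ isometryGroup F ⇑Q) :
    x * x ∈ omegaGL ⇑Q :=
  ⟨_, Cfsg.Agent.H377.mul_self_mem_Omega Q hQ h5 ⟨x, hx⟩, rfl⟩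

/-- isometries of odd order lie in `Ω` -/
theorem mem_of_odd (hQ : Nondeg Q) (h5 : 5 ≤ Fintype.card ι) {x : GL ι F} (hx : x ∈ isometryGroup F ⇑Q)
    (ho : Odd (_root_.orderOf x)) : x ∈ omegaGL ⇑Q := by
  obtain ⟨k, hk⟩ := ho
  have h1 : x = x ^ (k + 1) * x ^ (k + 1) := by
    rw [← pow_add, show k + 1 + (k + 1) = (2 * k + 1) + 1 by ring, ← hk, pow_succ, pow_orderOf_eq_one, one_mul]
  rw [h1]
  exact mul_self_mem hQ h5 (Subgroup.pow_mem _ hx _)

/-- **elements of `Ω` of odd order from isometries** -/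
theorem exists_odd (hQ : Nondeg Q) (h5 : 5 ≤ Fintype.card ι) (he : ∀ u, Q' (e u) = Q u) (hT : ∀ v, Q' (T v) = Q' v)
    (ho : Odd (_root_.orderOf T)) : ∃ x ∈ omegaGL ⇑Q, IsM e x T := by
  obtain ⟨x, hx, hxT⟩ := exists_gl hQ he hT
  exact ⟨x, mem_of_odd hQ h5 hx (by rwa [hxT.orderOf]), hxT⟩

/-- **elements of `Ω` from squares of isometries** -/
theorem exists_sq (hQ : Nondeg Q) (h5 : 5 ≤ Fintype.card ι) (he : ∀ u, Q' (e u) = Q u) {R : Module.End F V}
    (hR : ∀ v, Q' (R v) = Q' v) (hRT : R * R = T) : ∃ x ∈ omegaGL ⇑Q, IsM e x T := by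
  obtain ⟨x, hx, hxR⟩ := exists_gl hQ he hR
  refine ⟨x * x, mul_self_mem hQ h5 hx, ?_⟩
  rw [← hRT]
  exact hxR.mul hxR

end

end Cfsg.Agent.H688.Cov
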