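import Cfsg.Agent.H688.Cov.Kinds
import Cfsg.Agent.H906.Cov.Num

/-!
# S2499: the groups `PΩ⁻` of dimension at least 10 (helper688)
-/

set_option autoImplicit false
set_option linter.unusedSectionVars false

namespace Cfsg.Agent.H688.Cov

open Cfsg Cfsg.Geo Module Polynomial
open Cfsg.Agent.H278.Cov Cfsg.Agent.H383.Cov
open Cfsg.Agent.LieClassical.OrthCore (Nondeg)
open Cfsg.Agent.LieClassical.OrthForms (minusForm coe_minusForm nondeg_minusForm)
open Cfsg.Agent.H377 (HasSign Elt elt_ell exists_minus)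
open Cfsg.Agent.H403.Classify (Aniso)
open Cfsg.Agent.H689 (Ppd exists_ppd)
open Cfsg.Agent.H906.Cov (exists_num)
open scoped MatrixGroups Matrix

theorem coprime_of {b m c s : ℕ} (h : m = b * c + s) (hs : Nat.Coprime b s) : Nat.Coprime b m := by
  rw [h, mul_comm b c]
  exact (Nat.coprime_mul_right_add_right b s c).2 hs

/-- the block sizes of the third class -/
theorem exists_ab {m : ℕ} (hm : 5 ≤ m) (hm6 : m ≠ 6) : ∃ a b : ℕ, a + b = m ∧ Odd a ∧ 3 ≤ a ∧ 2 ≤ b ∧
    Nat.Coprime b m ∧ (∀ r : ℕ, r.Prime → r ≠ 2 → r ∣ m → r < 2 * a + 1) ∧ (b = 3 → m = 10) := by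
  have hr : ∀ {r : ℕ}, r ∣ m → r ≤ m := fun h => Nat.le_of_dvd (by omega) h
  rcases Nat.even_or_odd m with he | ho
  · by_cases h8 : m = 8
    · subst h8
      refine ⟨3, 5, rfl, ⟨1, rfl⟩, le_rfl, by norm_num, by norm_num, fun r h1 h2 h3 => ?_, by norm_num⟩
      exfalso
      apply h2
      have h4 : r ∣ 2 ^ 3 := h3
      exact (Nat.prime_dvd_prime_iff_eq h1 Nat.prime_two).1 (h1.dvd_of_dvd_pow h4)
    · obtain ⟨n, hn⟩ := he
      rcases Nat.even_or_odd n with ⟨k, hk⟩ | ⟨k, hk⟩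
      · obtain ⟨k', rfl⟩ : ∃ k', k = k' + 1 := ⟨k - 1, by omega⟩
        refine ⟨2 * k' + 3, 2 * k' + 1, by omega, ⟨k' + 1, by ring⟩, by omega, by omega, ?_, ?_, ?_⟩
        · exact coprime_of (c := 2) (s := 2) (by omega) (Nat.coprime_two_right.2 ⟨k', rfl⟩)
        · intro r h1 h2 h3
          have := hr h3
          omega
        · intro h; omega
      · obtain ⟨k', rfl⟩ : ∃ k', k = k' + 1 := ⟨k - 1, by omega⟩
        refine ⟨2 * k' + 5, 2 * k' + 1, by omega, ⟨k' + 2, by ring⟩, by omega, by omega, ?_, ?_, ?_⟩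
        · refine coprime_of (c := 2) (s := 4) (by omega) ?_
          have h4 : Nat.Coprime (2 * k' + 1) 2 := Nat.coprime_two_right.2 ⟨k', rfl⟩
          exact h4.mul_right h4
        · intro r h1 h2 h3
          have := hr h3
          omega
        · intro h; omega
  · refine ⟨m - 2, 2, by omega, ?_, by omega, le_rfl, Nat.coprime_two_left.2 ho, ?_, by omega⟩
    · obtain ⟨k, rfl⟩ := ho
      exact ⟨k - 1, by omega⟩
    · intro r h1 h2 h3
      have := hr h3
      omega

variable {ι : Type} [Fintype ι] [DecidableEq ι] {F : Type} [Field F] [Finite F] {Q : QuadraticForm F (ι → F)}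

theorem num_card {q n n' k N : ℕ} (h : Num q n k N) (e : n' = n) : Num q n' k N := by
  rw [e]
  exact h

theorem isPrimePow_card (F : Type) [Field F] [Finite F] : IsPrimePow (Nat.card F) := by
  have := Fintype.ofFinite F
  rw [Nat.card_eq_fintype_card]
  exact Fintype.isPrimePow_card_of_field

/-- **the general row** -/
theorem row_one [Nonempty ι] (hQ : Nondeg Q) (og : OgO ι F) {m : ℕ} (hcard : Fintype.card ι = 2 * m) (hmod : Mod Q m (-1))
    (hm : 5 ≤ m) (hm6 : m ≠ 6) (hq2 : Nat.card F = 2 → m ≠ 5 ∧ m ≠ 7 ∧ m ≠ 9 ∧ m ≠ 10 ∧ m ≠ 11) :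
    NoTwo (POmega F ⇑Q) := by
  have hq := isPrimePow_card F
  have hq1 : 2 ≤ Nat.card F := Finite.one_lt_card
  obtain ⟨N, hN⟩ := exists_num (n := 2 * m) (k := 2 * m) hq (by omega) le_rfl (by omega)
    (fun h => by have := hq2 h; omega) (by omega)
  obtain ⟨N', hN'⟩ := exists_num (n := 2 * m) (k := 2 * (m - 1)) hq (by omega) (by omega) (by omega)
    (fun h => by have := hq2 h; omega) (by omega)
  obtain ⟨a, b, hab, ha, ha3, hb2, hbm, hr, hb3⟩ := exists_ab hm hm6
  obtain ⟨l, hl⟩ := exists_ppd (q := Nat.card F) (k := a) hq1 ha3 (by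
    rintro ⟨-, rfl⟩
    exact absurd ha (by decide))
  obtain ⟨l', hl'⟩ := exists_ppd (q := Nat.card F) (k := 2 * b) hq1 (by omega) (by
    rintro ⟨h1, h2⟩
    exact (hq2 h1).2.2.2.1 (hb3 (by omega)))
  have hl2 := hl.two_lt ha3
  have hlo := hl.le_odd ha3 ha
  replace hN := num_card hN hcard
  replace hN' := num_card hN' hcard
  obtain ⟨z, hz, hk2, hkr, hz3⟩ := posNeg hQ (by omega) hab ha hl (by omega) hb2 hl' hmod
  refine noTwo_gen hQ og (j := m) (j' := m - 1) (by omega) (by omega) (S₁ := dimSet ι F {d | d ≤ 2 * 0})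
    (S₂ := dimSet ι F {d | d ≤ 2 * 1}) (S₃ := dimSet ι F {d | d < 2 * b → a ∣ d})
    (stable_dimSet _) (stable_dimSet _) (stable_dimSet _) (negTriv hQ hcard (by omega) hN hmod)
    (negTriv hQ hcard (by omega) hN' hmod) ⟨z, hz, hz3, ?_⟩ ?_ ?_ ?_ ⟨m - 1, by omega⟩ ?_
  · intro r hrp hrd
    have h1 : r ∣ 2 * m := by
      rw [← hcard]
      rcases hrd with h | h
      · exact h.trans (Nat.gcd_dvd_left _ _)
      · exact h.trans (Nat.gcd_dvd_left _ _)
    by_cases h2 : r = 2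
    · rw [h2]; exact hk2
    · have h3 : r ∣ m := ((Nat.coprime_primes hrp Nat.prime_two).2 h2).dvd_of_dvd_mul_left h1
      refine hkr r hrp ?_ ?_
      · have := hr r hrp h2 h3
        omega
      · intro h4
        have h5 : r ∣ b := ((Nat.coprime_primes hrp Nat.prime_two).2 h2).dvd_of_dvd_mul_left h4
        have h6 := Nat.dvd_gcd h5 h3
        rw [hbm] at h6
        exact hrp.one_lt.ne' (Nat.dvd_one.1 h6)
  · intro W h1 _
    have h2 : finrank F W ≤ 2 * 0 := h1
    exact Submodule.finrank_eq_zero.1 (by omega)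
  · intro W h1 _
    have h2 : finrank F W ≤ 2 * 0 := h1
    exact Submodule.finrank_eq_zero.1 (by omega)
  · intro W h1 h2
    have h3 : finrank F W ≤ 2 * 1 := h1
    have h4 : finrank F W < 2 * b → a ∣ finrank F W := h2
    refine Submodule.finrank_eq_zero.1 ?_
    by_contra h0
    have := Nat.le_of_dvd (Nat.pos_of_ne_zero h0) (h4 (by omega))
    omega
  · intro r hrp hrd
    have h1 : r ∣ 2 * m := by
      rw [← hcard]
      exact hrd.trans (Nat.gcd_dvd_left _ _)
    have h2 : r ∣ 2 * (m - 1) := hrd.trans (Nat.gcd_dvd_right _ _)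
    have h3 := Nat.dvd_sub h1 h2
    rw [show 2 * m - 2 * (m - 1) = 2 by omega] at h3
    exact (Nat.prime_dvd_prime_iff_eq hrp Nat.prime_two).1 h3

theorem exists_t (F : Type) [Field F] [Finite F] : ∃ (Q₀ : QuadraticForm F (Fin (2 * 1) → F))
    (t : Module.End F (Fin (2 * 1) → F)), Nondeg Q₀ ∧ HasSign (⇑Q₀) 1 (-1) ∧ (∀ v, Q₀ (t v) = Q₀ v) ∧
      orderOf t = Nat.card F + 1 ∧ ∀ {v : Fin (2 * 1) → F} {c : F}, t v = c • v → v = 0 := by
  obtain ⟨-, Q₀, t, nd, sg, is, os⟩ := elt_ell (F := F) (N := Nat.card F + 1) dvd_rfl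
  refine ⟨Q₀, t, nd, sg, is, os, fun {v c} h => ?_⟩
  exact noEig (by rw [Module.finrank_fin_fun]) (fun v hv => aniso_of_sign nd (Module.finrank_fin_fun F) sg hv)
    is os h

/-- the row with `neg (m - 2) + (t, t)` -/
theorem row_two [Nonempty ι] (hQ : Nondeg Q) (og : OgO ι F) {m : ℕ} (hcard : Fintype.card ι = 2 * m)
    (hmod : Mod Q m (-1)) {j N N' a b l l' : ℕ} (hj : j + 2 = m)
    (hN : Num (Nat.card F) (Fintype.card ι) (2 * j) N) (hN' : Num (Nat.card F) (Fintype.card ι) (2 * (j + 1)) N')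
    (hab : a + b = m) (ha : Odd a) (ha3 : 3 ≤ a) (hb3 : 3 ≤ b) (hl : Ppd (Nat.card F) a l)
    (hl' : Ppd (Nat.card F) (2 * b) l') (ha4 : a ≠ 3 → 5 ≤ a) : NoTwo (POmega F ⇑Q) := by
  have hq1 : 2 ≤ Nat.card F := Finite.one_lt_card
  have h10 := hN.ten
  obtain ⟨Q₀, t, nd, sg, is, os, hne⟩ := exists_t F
  have hl2 := hl.two_lt ha3
  obtain ⟨z, hz, hk2, hkr, hz3⟩ := posNeg hQ (by omega) hab ha hl (by omega) (by omega) hl' hmod
  have hj1 : 1 ≤ j := by omega
  refine noTwo_gen hQ og (j := j) (j' := j + 1) hj1 (by omega) (S₁ := setA Q)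
    (S₂ := setB Q) (S₃ := dimSet ι F {d | d < 2 * b → a ∣ d})
    stable_setA stable_setB (stable_dimSet _)
    (negDiag hQ hcard hj hN nd sg is (by
      rw [os]
      intro h
      have := Nat.le_of_dvd (by norm_num) h
      omega) (by rw [os]) (fun {v c} h => hne h) hmod)
    (negHyp hQ hcard (by omega) hN' hmod) ⟨z, hz, hz3, ?_⟩ (fun W h1 h2 => setA_setB h1 h2) ?_ ?_ ⟨j, by omega⟩ ?_
  · intro r hrp hrd
    have h4 : r ∣ 4 := by
      rcases hrd with h | h
      · have h1 : r ∣ 2 * m := by rw [← hcard]; exact h.trans (Nat.gcd_dvd_left _ _)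
        have h3 := Nat.dvd_sub h1 (h.trans (Nat.gcd_dvd_right _ _))
        rwa [show 2 * m - 2 * j = 4 by omega] at h3
      · have h1 : r ∣ 2 * m := by rw [← hcard]; exact h.trans (Nat.gcd_dvd_left _ _)
        have h3 := Nat.dvd_sub h1 (h.trans (Nat.gcd_dvd_right _ _))
        rw [show 2 * m - 2 * (j + 1) = 2 by omega] at h3
        exact h3.trans (by norm_num)
    have h5 : r = 2 := by
      have h6 : r ∣ 2 ^ 2 := h4
      exact (Nat.prime_dvd_prime_iff_eq hrp Nat.prime_two).1 (hrp.dvd_of_dvd_pow h6)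
    rw [h5]
    exact hk2
  · rintro W ⟨h1, h2, -⟩ h3
    have h4 : finrank F W < 2 * b → a ∣ finrank F W := h3
    refine Submodule.finrank_eq_zero.1 ?_
    by_contra h0
    have h5 := h4 (by omega)
    have h6 := Nat.le_of_dvd (Nat.pos_of_ne_zero h0) h5
    have h7 : a = 3 := by
      by_contra h
      have := ha4 h
      omega
    rw [h7] at h5
    omega
  · rintro W ⟨h1, -⟩ h3
    have h4 : finrank F W < 2 * b → a ∣ finrank F W := h3
    refine Submodule.finrank_eq_zero.1 ?_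
    by_contra h0
    have := Nat.le_of_dvd (Nat.pos_of_ne_zero h0) (h4 (by omega))
    omega
  · intro r hrp hrd
    have h1 : r ∣ 2 * m := by rw [← hcard]; exact hrd.trans (Nat.gcd_dvd_left _ _)
    have h3 := Nat.dvd_sub h1 (hrd.trans (Nat.gcd_dvd_right _ _))
    rw [show 2 * m - 2 * (j + 1) = 2 by omega] at h3
    exact (Nat.prime_dvd_prime_iff_eq hrp Nat.prime_two).1 h3

/-- `m = 6`, `q ≥ 3` -/
theorem row_six [Nonempty ι] (hQ : Nondeg Q) (og : OgO ι F) (hcard : Fintype.card ι = 2 * 6)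
    (hmod : Mod Q 6 (-1)) (hq3 : Nat.card F ≠ 2) : NoTwo (POmega F ⇑Q) := by
  have hq := isPrimePow_card F
  have hq1 : 2 ≤ Nat.card F := Finite.one_lt_card
  obtain ⟨N, hN⟩ := exists_num (n := 2 * 6) (k := 2 * 4) hq (by norm_num) (by norm_num) (by norm_num)
    (fun h => absurd h hq3) (by norm_num)
  obtain ⟨N', hN'⟩ := exists_num (n := 2 * 6) (k := 2 * (4 + 1)) hq (by norm_num) (by norm_num) (by norm_num)
    (fun h => absurd h hq3) (by norm_num)
  obtain ⟨l, hl⟩ := exists_ppd (q := Nat.card F) (k := 3) hq1 (by norm_num) (by norm_num)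
  obtain ⟨l', hl'⟩ := exists_ppd (q := Nat.card F) (k := 2 * 3) hq1 (by norm_num) (fun h => hq3 h.1)
  replace hN := num_card hN hcard
  replace hN' := num_card hN' hcard
  exact row_two hQ og hcard hmod (j := 4) rfl hN hN' rfl (by decide) le_rfl le_rfl hl hl' (fun h => absurd rfl h)

/-- `m = 9`, `q = 2` -/
theorem row_nine [Nonempty ι] (hQ : Nondeg Q) (og : OgO ι F) (hcard : Fintype.card ι = 2 * 9)
    (hmod : Mod Q 9 (-1)) : NoTwo (POmega F ⇑Q) := by
  have hq := isPrimePow_card F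
  have hq1 : 2 ≤ Nat.card F := Finite.one_lt_card
  obtain ⟨N, hN⟩ := exists_num (n := 2 * 9) (k := 2 * 7) hq (by norm_num) (by norm_num) (by norm_num)
    (fun h => by norm_num) (by norm_num)
  obtain ⟨N', hN'⟩ := exists_num (n := 2 * 9) (k := 2 * (7 + 1)) hq (by norm_num) (by norm_num) (by norm_num)
    (fun h => by norm_num) (by norm_num)
  obtain ⟨l, hl⟩ := exists_ppd (q := Nat.card F) (k := 5) hq1 (by norm_num) (by norm_num)
  obtain ⟨l', hl'⟩ := exists_ppd (q := Nat.card F) (k := 2 * 4) hq1 (by norm_num) (by norm_num)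
  replace hN := num_card hN hcard
  replace hN' := num_card hN' hcard
  exact row_two hQ og hcard hmod (j := 7) rfl hN hN' rfl (by decide) (by norm_num) (by norm_num) hl hl'
    (fun _ => le_rfl)

/-- `m = 11`, `q = 2` (valid for all `q`) -/
theorem row_eleven [Nonempty ι] (hQ : Nondeg Q) (og : OgO ι F) (hcard : Fintype.card ι = 2 * 11)
    (hmod : Mod Q 11 (-1)) : NoTwo (POmega F ⇑Q) := by
  have hq := isPrimePow_card F
  have hq1 : 2 ≤ Nat.card F := Finite.one_lt_card
  obtain ⟨N, hN⟩ := exists_num (n := 2 * 11) (k := 2 * 11) hq (by norm_num) (by norm_num) (by norm_num)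
    (fun h => by norm_num) (by norm_num)
  obtain ⟨N', hN'⟩ := exists_num (n := 2 * 11) (k := 2 * 8) hq (by norm_num) (by norm_num) (by norm_num)
    (fun h => by norm_num) (by norm_num)
  obtain ⟨l, hl⟩ := exists_ppd (q := Nat.card F) (k := 7) hq1 (by norm_num) (by norm_num)
  obtain ⟨l', hl'⟩ := exists_ppd (q := Nat.card F) (k := 2 * 4) hq1 (by norm_num) (by norm_num)
  replace hN := num_card hN hcard
  replace hN' := num_card hN' hcard
  have hl2 := hl.two_lt (by norm_num)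
  have hlo := hl.le_odd (by norm_num) (by decide)
  obtain ⟨z, hz, hk2, hkr, hz3⟩ := posNeg hQ (by omega) (m := 11) (a := 7) (b := 4) rfl (by decide) hl (by omega)
    (by norm_num) hl' hmod
  refine noTwo_gen hQ og (j := 11) (j' := 8) (by omega) (by omega) (S₁ := dimSet ι F {d | d ≤ 2 * 0})
    (S₂ := dimSet ι F {d | d ≤ 2 * 3}) (S₃ := dimSet ι F {d | d < 2 * 4 → 7 ∣ d})
    (stable_dimSet _) (stable_dimSet _) (stable_dimSet _) (negTriv hQ hcard (by omega) hN hmod)
    (negTriv hQ hcard (by omega) hN' hmod) ⟨z, hz, hz3, ?_⟩ ?_ ?_ ?_ (by decide) ?_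
  · intro r hrp hrd
    have h1 : r ∣ 2 * 11 := by
      rw [← hcard]
      rcases hrd with h | h
      · exact h.trans (Nat.gcd_dvd_left _ _)
      · exact h.trans (Nat.gcd_dvd_left _ _)
    rcases (Nat.Prime.dvd_mul hrp).1 h1 with h2 | h2
    · rw [(Nat.prime_dvd_prime_iff_eq hrp Nat.prime_two).1 h2]
      exact hk2
    · have h3 := (Nat.prime_dvd_prime_iff_eq hrp (by norm_num)).1 h2
      refine hkr r hrp (by omega) ?_
      rw [h3]
      norm_num
  · intro W h1 _
    have h2 : finrank F W ≤ 2 * 0 := h1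
    exact Submodule.finrank_eq_zero.1 (by omega)
  · intro W h1 _
    have h2 : finrank F W ≤ 2 * 0 := h1
    exact Submodule.finrank_eq_zero.1 (by omega)
  · intro W h1 h2
    have h3 : finrank F W ≤ 2 * 3 := h1
    have h4 : finrank F W < 2 * 4 → 7 ∣ finrank F W := h2
    refine Submodule.finrank_eq_zero.1 ?_
    by_contra h0
    have := Nat.le_of_dvd (Nat.pos_of_ne_zero h0) (h4 (by omega))
    omega
  · intro r hrp hrd
    rw [hcard] at hrd
    exact (Nat.prime_dvd_prime_iff_eq hrp Nat.prime_two).1 hrd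

/-- `m = 10`, `q = 2` (valid for all `q`) -/
theorem row_ten [Nonempty ι] (hQ : Nondeg Q) (og : OgO ι F) (hcard : Fintype.card ι = 2 * 10)
    (hmod : Mod Q 10 (-1)) : NoTwo (POmega F ⇑Q) := by
  have hq := isPrimePow_card F
  have hq1 : 2 ≤ Nat.card F := Finite.one_lt_card
  obtain ⟨N, hN⟩ := exists_num (n := 2 * 10) (k := 2 * 8) hq (by norm_num) (by norm_num) (by norm_num)
    (fun h => by norm_num) (by norm_num)
  obtain ⟨N', hN'⟩ := exists_num (n := 2 * 10) (k := 2 * 7) hq (by norm_num) (by norm_num) (by norm_num)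
    (fun h => by norm_num) (by norm_num)
  obtain ⟨l, hl⟩ := exists_ppd (q := Nat.card F) (k := 5) hq1 (by norm_num) (by norm_num)
  obtain ⟨l', hl'⟩ := exists_ppd (q := Nat.card F) (k := 2 * 5) hq1 (by norm_num) (by norm_num)
  obtain ⟨l₃, hl₃⟩ := exists_ppd (q := Nat.card F) (k := 3) hq1 (by norm_num) (by norm_num)
  replace hN := num_card hN hcard
  replace hN' := num_card hN' hcard
  have hl2 := hl.two_lt (by norm_num)
  have hl32 := hl₃.two_lt (by norm_num)
  obtain ⟨Q₀, t, nd, sg, is, os, hne⟩ := exists_t F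
  obtain ⟨z, hz, hk2, hkr, hz3⟩ := posNeg hQ (by omega) (m := 10) (a := 5) (b := 5) rfl (by decide) hl (by omega)
    (by norm_num) hl' hmod
  refine noTwo_gen hQ og (j := 8) (j' := 7) (by omega) (by omega) (S₁ := setA Q)
    (S₂ := dimSet ι F {d | d ≤ 2 * 3 ∧ 3 ∣ d}) (S₃ := dimSet ι F {d | d < 2 * 5 → 5 ∣ d})
    stable_setA (stable_dimSet _) (stable_dimSet _)
    (negDiag hQ hcard rfl hN nd sg is (by
      rw [os]
      intro h
      have := Nat.le_of_dvd (by norm_num) h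
      omega) (by rw [os]) (fun {v c} h => hne h) hmod)
    (negPos hQ hcard rfl hN' (by decide) (by norm_num) hl₃ (by omega) hmod) ⟨z, hz, hz3, ?_⟩ ?_ ?_ ?_ (by decide) ?_
  · intro r hrp hrd
    rw [hcard] at hrd
    have h5 : r ∣ 4 := by
      rcases hrd with h | h
      · exact h
      · exact Dvd.dvd.trans h (by norm_num)
    have h6 : r ∣ 2 ^ 2 := h5
    rw [(Nat.prime_dvd_prime_iff_eq hrp Nat.prime_two).1 (hrp.dvd_of_dvd_pow h6)]
    exact hk2
  · rintro W ⟨h1, h2, -⟩ ⟨h3, h4⟩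
    exact Submodule.finrank_eq_zero.1 (by omega)
  · rintro W ⟨h1, h2, -⟩ h3
    have h4 : finrank F W < 2 * 5 → 5 ∣ finrank F W := h3
    have h5 := h4 (by omega)
    exact Submodule.finrank_eq_zero.1 (by omega)
  · rintro W ⟨h1, h2⟩ h3
    have h4 : finrank F W < 2 * 5 → 5 ∣ finrank F W := h3
    have h5 := h4 (by omega)
    exact Submodule.finrank_eq_zero.1 (by omega)
  · intro r hrp hrd
    rw [hcard] at hrd
    exact (Nat.prime_dvd_prime_iff_eq hrp Nat.prime_two).1 hrd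

/-- **COV-OMINUS** (modulo OG-O): all `PΩ⁻` of dimension `2 m ≥ 10` except `PΩ⁻₁₀(2)`, `PΩ⁻₁₂(2)`, `PΩ⁻₁₄(2)` -/
theorem noTwo_ominus_of {m : ℕ} {F : Type} [Field F] [Fintype F]
    (og : OgO ((Fin (m - 1) ⊕ Fin (m - 1)) ⊕ Fin 2) F) (hm : 5 ≤ m)
    (hq2 : Fintype.card F = 2 → 8 ≤ m) {a b : F}
    (hab : ∀ z₁ z₂ : F, z₁ ^ 2 + a * z₁ * z₂ + b * z₂ ^ 2 = 0 → z₁ = 0 ∧ z₂ = 0) :
    NoTwo (POmega F (quadFormMinus (m - 1) F a b)) := by
  have hcard : Fintype.card ((Fin (m - 1) ⊕ Fin (m - 1)) ⊕ Fin 2) = 2 * m := by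
    simp only [Fintype.card_sum, Fintype.card_fin]
    omega
  have hQ : Nondeg (minusForm (m - 1) F a b) := nondeg_minusForm (m - 1) F a b hab
  have hmod : Mod (minusForm (m - 1) F a b) m (-1) := by
    intro V _ _ _ Q' hV hQ' hs
    obtain ⟨e, he⟩ := exists_minus (by omega) hV Q' hQ' hs hab
    exact ⟨e, fun u => by rw [he, coe_minusForm]⟩
  rw [← coe_minusForm]
  rw [← Nat.card_eq_fintype_card] at hq2
  by_cases h6 : m = 6
  · subst h6
    exact row_six hQ og hcard hmod (fun h => by have := hq2 h; omega)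
  by_cases h9 : m = 9
  · subst h9
    exact row_nine hQ og hcard hmod
  by_cases h10 : m = 10
  · subst h10
    exact row_ten hQ og hcard hmod
  by_cases h11 : m = 11
  · subst h11
    exact row_eleven hQ og hcard hmod
  exact row_one hQ og hcard hmod hm h6 (fun h => by have := hq2 h; omega)

end Cfsg.Agent.H688.Cov
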