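import Cfsg.Agent.H182.CentStr
import Mathlib.FieldTheory.Finite.Basic

/-!
# S2499: the star lemma (helper688)

`adj` : `g` an isometry with `g ^ (q ^ d + 1) = 1`, irreducible on the `g`-invariant subspace `Y`; `e` commutes with `g` and
preserves `Y`. Then the adjoint of `e` on `Y` is `e ^ (q ^ d)`.
`star` : two such isometries, one of them irreducible on the whole space, commuting with an element `e` generating a field
of degree 2: `d ≡ d' mod 2`.
-/

set_option autoImplicit false

namespace Cfsg.Agent.H688.Cov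

open Module Cfsg.Agent.H182.Cent Polynomial

section

variable {F V : Type*} [Field F] [Finite F] [AddCommGroup V] [Module F V]

/-- `h(x) ^ (q ^ d) = h(x ^ (q ^ d))` -/
theorem aeval_pow_card {A : Type*} [Ring A] [Algebra F A] (x : A) (h : F[X]) (d : ℕ) :
    aeval (x ^ (Nat.card F ^ d)) h = (aeval x h) ^ (Nat.card F ^ d) := by
  classical
  let _ := Fintype.ofFinite F
  induction d with
  | zero => simp
  | succ d ih =>
    rw [pow_succ, pow_mul, pow_mul, ← ih, Nat.card_eq_fintype_card]
    rw [← expand_aeval, FiniteField.expand_card, map_pow]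

/-- an endomorphism commuting with `g` is a polynomial in `g` on a `g`-irreducible subspace -/
theorem exists_aeval {g e : End F V} (hc : Commute e g) {Y : Submodule F V} (hg : Inv g Y) (heY : Inv e Y)
    (hirr : ∀ W ≤ Y, Inv g W → W = ⊥ ∨ W = Y) (hY : Y ≠ ⊥) : ∃ h : F[X], ∀ y ∈ Y, e y = aeval g h y := by
  obtain ⟨v, hv, hv0⟩ := Submodule.exists_mem_ne_zero_of_ne_bot hY
  -- the cyclic submodule
  let L : F[X] →ₗ[F] V := (LinearMap.applyₗ v).comp (aeval g : F[X] →ₐ[F] End F V).toLinearMap
  have hL : ∀ h, L h = aeval g h v := fun h => rfl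
  have hpol : ∀ (h : F[X]) (y : V), y ∈ Y → aeval g h y ∈ Y := by
    intro h y hy
    induction h using Polynomial.induction_on' with
    | add a b ha hb => rw [map_add, LinearMap.add_apply]; exact Y.add_mem ha hb
    | monomial n c =>
      rw [aeval_monomial, Module.End.mul_apply, Module.algebraMap_end_apply]
      exact Y.smul_mem _ (hg.pow n y hy)
  have hinv : Inv g (LinearMap.range L) := by
    rintro _ ⟨h, rfl⟩
    refine ⟨X * h, ?_⟩
    rw [hL, hL, map_mul, aeval_X, Module.End.mul_apply]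
  have hle : LinearMap.range L ≤ Y := by
    rintro _ ⟨h, rfl⟩
    exact hpol h v hv
  have htop : LinearMap.range L = Y := by
    refine (hirr _ hle hinv).resolve_left fun h => hv0 ?_
    have h1 : v ∈ LinearMap.range L := ⟨1, by rw [hL, map_one]; rfl⟩
    rw [h] at h1
    exact (Submodule.mem_bot F).1 h1
  obtain ⟨h, hh⟩ : e v ∈ LinearMap.range L := by rw [htop]; exact heY v hv
  refine ⟨h, fun y hy => ?_⟩
  rw [← htop] at hy
  obtain ⟨k, rfl⟩ := hy
  have hce : Commute e (aeval g k) := by
    have h1 : ∀ k : F[X], Commute e (aeval g k) := by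
      intro k
      induction k using Polynomial.induction_on' with
      | add a b ha hb => rw [map_add]; exact ha.add_right hb
      | monomial n c =>
        rw [aeval_monomial]
        exact Commute.mul_right (Algebra.commutes' c e).symm (hc.pow_right n)
    exact h1 k
  rw [hL]
  have h2 : e (aeval g k v) = aeval g k (e v) := by
    rw [← Module.End.mul_apply, hce.eq, Module.End.mul_apply]
  rw [h2, ← hh, hL, ← Module.End.mul_apply, ← Module.End.mul_apply, ← map_mul, ← map_mul, mul_comm]

variable {B : V → V → F} (hB : SForm (RingHom.id F) B)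

omit [Finite F] in
include hB in
/-- the adjoint of a polynomial in an isometry -/
theorem adj_aeval {g : End F V} (hg : ∀ v w, B (g v) (g w) = B v w) {k : ℕ} (hk : g ^ (k + 1) = 1) (h : F[X]) (v w : V) :
    B (aeval g h v) w = B v (aeval (g ^ k) h w) := by
  have hgk : ∀ n : ℕ, ∀ v w, B ((g ^ n) v) w = B v (((g ^ k) ^ n) w) := by
    have h1 : ∀ v w, B (g v) w = B v ((g ^ k) w) := by
      intro v w
      have e1 : g ((g ^ k) w) = w := by
        rw [← Module.End.mul_apply, ← pow_succ', hk]
        rfl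
      conv_lhs => rw [← e1]
      exact hg _ _
    intro n
    induction n with
    | zero => intro v w; rfl
    | succ n ih =>
      intro v w
      rw [pow_succ', Module.End.mul_apply, h1, ih, ← Module.End.mul_apply, ← pow_succ]
  induction h using Polynomial.induction_on' with
  | add a b ha hb => rw [map_add, map_add, LinearMap.add_apply, LinearMap.add_apply, hB.add_left, hB.add_right, ha, hb]
  | monomial n c =>
    rw [aeval_monomial, aeval_monomial, Module.End.mul_apply, Module.End.mul_apply, Module.algebraMap_end_apply,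
      Module.algebraMap_end_apply, hB.smul_left, hB.smul_right, hgk]
    rfl

include hB in
/-- **the adjoint of `e` on `Y` is `e ^ (q ^ d)`** -/
theorem adj {g e : End F V} (hg : ∀ v w, B (g v) (g w) = B v w) {d : ℕ} (hd : g ^ (Nat.card F ^ d + 1) = 1)
    (hc : Commute e g) {Y : Submodule F V} (hgY : Inv g Y) (heY : Inv e Y)
    (hirr : ∀ W ≤ Y, Inv g W → W = ⊥ ∨ W = Y) {v w : V} (hv : v ∈ Y) (hw : w ∈ Y) :
    B (e v) w = B v ((e ^ (Nat.card F ^ d)) w) := by
  by_cases hY : Y = ⊥
  · subst hY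
    rw [(Submodule.mem_bot F).1 hv, map_zero, hB.zero_left, hB.zero_left]
  obtain ⟨h, hh⟩ := exists_aeval hc hgY heY hirr hY
  have h1 : ∀ n : ℕ, ∀ y ∈ Y, (e ^ n) y = ((aeval g h) ^ n) y ∧ (e ^ n) y ∈ Y := by
    intro n
    induction n with
    | zero => exact fun y hy => ⟨rfl, hy⟩
    | succ n ih =>
      intro y hy
      obtain ⟨i1, i2⟩ := ih y hy
      refine ⟨?_, ?_⟩
      · rw [pow_succ', pow_succ', Module.End.mul_apply, Module.End.mul_apply, hh _ i2, i1]
      · rw [pow_succ', Module.End.mul_apply]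
        exact heY _ i2
  rw [hh v hv, adj_aeval hB hg hd, aeval_pow_card, (h1 _ w hw).1]

theorem pow_pow_even {R : Type*} [Monoid R] {e : R} {q : ℕ} (h : e ^ (q ^ 2) = e) : ∀ d : ℕ, Even d → e ^ (q ^ d) = e := by
  rintro d ⟨k, rfl⟩
  induction k with
  | zero => simp
  | succ k ih =>
    rw [show k + 1 + (k + 1) = (k + k) + 2 by ring, pow_add, pow_mul, ih, h]

theorem pow_pow_odd {R : Type*} [Monoid R] {e : R} {q : ℕ} (h : e ^ (q ^ 2) = e) : ∀ d : ℕ, Odd d → e ^ (q ^ d) = e ^ q := by
  rintro d ⟨k, rfl⟩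
  rw [pow_succ, pow_mul, pow_pow_even h _ (even_two_mul k)]

include hB in
/-- **the star lemma** -/
theorem star {g g' e : End F V} (hg : ∀ v w, B (g v) (g w) = B v w)
    (hg' : ∀ v w, B (g' v) (g' w) = B v w) {d d' : ℕ} (hd : g ^ (Nat.card F ^ d + 1) = 1)
    (hd' : g' ^ (Nat.card F ^ d' + 1) = 1) (hc : Commute e g) (hc' : Commute e g')
    (hirr : ∀ W : Submodule F V, Inv g W → W = ⊥ ∨ W = ⊤) {Y : Submodule F V} (hY : Y ≠ ⊥) (hnY : NonDeg B Y)
    (hgY : Inv g' Y) (heY : Inv e Y) (hirr' : ∀ W ≤ Y, Inv g' W → W = ⊥ ∨ W = Y)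
    (he2 : e ^ (Nat.card F ^ 2) = e) (he : ∀ v, (e ^ Nat.card F) v = e v → v = 0) : Even (d + d') := by
  by_contra hpar
  have key : ∀ v ∈ Y, ∀ w ∈ Y, B v ((e ^ (Nat.card F ^ d)) w) = B v ((e ^ (Nat.card F ^ d')) w) := by
    intro v hv w hw
    rw [← adj hB hg hd hc (Y := ⊤) (fun _ _ => trivial) (fun _ _ => trivial) (fun W _ hW => hirr W hW) trivial trivial,
      ← adj hB hg' hd' hc' hgY heY hirr' hv hw]
  have hpow : ∀ n : ℕ, ∀ y ∈ Y, (e ^ n) y ∈ Y := fun n => heY.pow n
  have key2 : ∀ w ∈ Y, (e ^ (Nat.card F ^ d)) w = (e ^ (Nat.card F ^ d')) w := by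
    intro w hw
    rw [← sub_eq_zero]
    refine hnY _ (Y.sub_mem (hpow _ w hw) (hpow _ w hw)) fun v hv => ?_
    apply hB.refl
    have h1 := key v hv w hw
    have h2 : B v ((e ^ (Nat.card F ^ d)) w) = B v ((e ^ (Nat.card F ^ d')) w) +
        B v ((e ^ (Nat.card F ^ d)) w - (e ^ (Nat.card F ^ d')) w) := by
      rw [← hB.add_right, add_sub_cancel]
    rw [h1] at h2
    exact (left_eq_add.1 h2)
  obtain ⟨w, hw, hw0⟩ := Submodule.exists_mem_ne_zero_of_ne_bot hY
  apply hw0
  apply he
  have h3 := key2 w hw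
  rcases Nat.even_or_odd d with h4 | h4
  · have h5 : Odd d' := by
      rw [← Nat.not_even_iff_odd]
      exact fun h => hpar (h4.add h)
    rw [pow_pow_even he2 _ h4, pow_pow_odd he2 _ h5] at h3
    exact h3.symm
  · have h5 : Even d' := by
      rw [← Nat.not_odd_iff_even]
      exact fun h => hpar (h4.add_odd h)
    rw [pow_pow_even he2 _ h5, pow_pow_odd he2 _ h4] at h3
    exact h3

end

end Cfsg.Agent.H688.Cov
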